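import Groth.Agent.CycDegLib.Additive
import Groth.Agent.CycC1Lib.Cap

/-!
# The Chow class of a coherent module of one higher dimension
-/

set_option autoImplicit false
set_option linter.style.haveILetI false
set_option linter.unusedSectionVars false

universe u

open CategoryTheory CategoryTheory.Limits AlgebraicGeometry TopologicalSpace Opposite

noncomputable section

namespace CycDegLib

open DevissLib (St)
open CycK0Lib (P)

variable {X : Scheme.{u}} {δ : X → ℤ} {k : ℤ}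

theorem divFun_one [IsLocallyNoetherian X] (hX : Cyc.IsSetup X δ) (ξ y : X) : Cyc.divFun δ ξ 1 y = 0 := by
  rw [Cyc.divFun]
  split_ifs with h
  · exact ordAt_one (k := δ y) hX h.1 rfl h.2.symm
  · rfl

/-- The functions which in dimension `k` are locally finite sums of principal divisors. -/
def IsPrincipal (δ : X → ℤ) (k : ℤ) (g : X → ℤ) : Prop :=
  ∃ f : ∀ ξ : X, X.residueField ξ, (∀ ξ, f ξ ≠ 0) ∧ (∀ ξ, δ ξ ≠ k + 1 → f ξ = 1) ∧
    (∀ x : X, ∃ U : Set X, IsOpen U ∧ x ∈ U ∧ {ξ | ξ ∈ U ∧ f ξ ≠ 1}.Finite) ∧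
    ∀ y, δ y = k → g y = ∑ᶠ ξ, Cyc.divFun δ ξ (f ξ) y

theorem finite_support [IsLocallyNoetherian X] (hX : Cyc.IsSetup X δ) {f : ∀ ξ : X, X.residueField ξ}
    (hlf : ∀ x : X, ∃ U : Set X, IsOpen U ∧ x ∈ U ∧ {ξ | ξ ∈ U ∧ f ξ ≠ 1}.Finite) (y : X) :
    (Function.support fun ξ => Cyc.divFun δ ξ (f ξ) y).Finite := by
  obtain ⟨U, hU, hy, hfin⟩ := hlf y
  refine hfin.subset fun ξ hξ => ⟨?_, fun e => hξ ?_⟩
  · by_contra hne
    exact hξ (CycC1Lib.divFun_eq_zero_of_not_specializes (fun h => hne (h.mem_open hU hy)) _)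
  · show Cyc.divFun δ ξ (f ξ) y = 0
    rw [e]
    exact divFun_one hX ξ y

/-- The group of functions which in dimension `k` are principal. -/
def principal [IsLocallyNoetherian X] (hX : Cyc.IsSetup X δ) (k : ℤ) : AddSubgroup (X → ℤ) where
  carrier := {g | IsPrincipal δ k g}
  zero_mem' := ⟨fun _ => 1, fun _ => one_ne_zero, fun _ _ => rfl,
    fun x => ⟨Set.univ, isOpen_univ, trivial, by simp⟩, fun y _ => by
      rw [finsum_eq_zero_of_forall_eq_zero fun ξ => divFun_one hX ξ y]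
      rfl⟩
  add_mem' := by
    rintro g g' ⟨f, hf0, hf1, hf, hg⟩ ⟨f', hf0', hf1', hf', hg'⟩
    refine ⟨fun ξ => f ξ * f' ξ, fun ξ => mul_ne_zero (hf0 ξ) (hf0' ξ),
      fun ξ h => by simp only [hf1 ξ h, hf1' ξ h, one_mul], fun x => ?_, fun y hy => ?_⟩
    · obtain ⟨U, hU, hx, hfin⟩ := hf x
      obtain ⟨U', hU', hx', hfin'⟩ := hf' x
      refine ⟨U ∩ U', hU.inter hU', ⟨hx, hx'⟩, (hfin.union hfin').subset ?_⟩
      rintro ξ ⟨⟨h, h'⟩, hne⟩
      by_cases e : f ξ = 1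
      · exact Or.inr ⟨h', fun e' => hne (by simp only [e, e', one_mul])⟩
      · exact Or.inl ⟨h, e⟩
    · rw [Pi.add_apply, hg y hy, hg' y hy, ← finsum_add_distrib (finite_support hX hf y) (finite_support hX hf' y)]
      refine finsum_congr fun ξ => ?_
      by_cases h : ξ ⤳ y ∧ δ y + 1 = δ ξ
      · simp only [Cyc.divFun, dif_pos h]
        exact (CycDivLib.ordAt_mul h.1 (CycPushLib.dimBetween_le_one_of_drop hX h.1 h.2) (hf0 ξ) (hf0' ξ)).symm
      · simp only [Cyc.divFun, dif_neg h, add_zero]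
  neg_mem' := by
    rintro g ⟨f, hf0, hf1, hf, hg⟩
    refine ⟨fun ξ => (f ξ)⁻¹, fun ξ => inv_ne_zero (hf0 ξ), fun ξ h => by simp only [hf1 ξ h, inv_one], fun x => ?_,
      fun y hy => ?_⟩
    · obtain ⟨U, hU, hx, hfin⟩ := hf x
      exact ⟨U, hU, hx, hfin.subset fun ξ h => ⟨h.1, fun e => h.2 (by simp only [e, inv_one])⟩⟩
    · rw [Pi.neg_apply, hg y hy, ← finsum_neg_distrib]
      exact finsum_congr fun ξ => (CycC1Lib.divFun_inv hX (hf0 ξ) y).symm

variable [IsLocallyNoetherian X]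

theorem ratEquivZero_of_mem (hX : Cyc.IsSetup X δ) {α : AlgebraicCycle X ℤ} (hα : α ∈ Cyc.Zk X δ k)
    (h : ⇑α ∈ principal hX k) : Cyc.RatEquivZero δ k α := by
  obtain ⟨f, hf0, hf1, hlf, hg⟩ := h
  refine ⟨{ξ : X // f ξ ≠ 1}, fun i => i.1, fun i => f i.1, fun i => by_contra fun h => i.2 (hf1 i.1 h),
    fun i => hf0 i.1, fun x => ?_, fun y => ?_⟩
  · obtain ⟨U, hU, hx, hfin⟩ := hlf x
    refine ⟨U, hU, hx, (hfin.preimage Subtype.val_injective.injOn).subset fun i hi => ?_⟩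
    obtain ⟨z, hz, hzU⟩ := hi
    exact ⟨(specializes_iff_mem_closure.2 hz).mem_open hU hzU, i.2⟩
  · have hsub : (∑ᶠ i : {ξ : X // f ξ ≠ 1}, Cyc.divFun δ i.1 (f i.1) y) = ∑ᶠ ξ, Cyc.divFun δ ξ (f ξ) y := by
      rw [show (∑ᶠ i : {ξ : X // f ξ ≠ 1}, Cyc.divFun δ i.1 (f i.1) y) = _ from
        finsum_subtype_eq_finsum_cond (f := fun ξ => Cyc.divFun δ ξ (f ξ) y) fun ξ => f ξ ≠ 1]
      refine finsum_congr fun ξ => ?_
      by_cases e : f ξ = 1
      · have h0 : Cyc.divFun δ ξ (f ξ) y = 0 := by rw [e, divFun_one hX]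
        rw [h0]
        exact finsum_zero
      · exact finsum_eq_single _ e fun h hne => absurd rfl hne
    rw [hsub]
    by_cases hy : δ y = k
    · exact hg y hy
    · rw [hα y hy, finsum_eq_zero_of_forall_eq_zero fun ξ => ?_]
      rw [Cyc.divFun]
      split_ifs with h
      · by_cases hξ : δ ξ = k + 1
        · omega
        · rw [hf1 ξ hξ]
          exact ordAt_one (k := δ y) hX h.1 rfl h.2.symm
      · rfl

/-- The degree function of a module. -/
def theta (δ : X → ℤ) (k : ℤ) (F : X.Modules) : X → ℤ := fun y =>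
  if δ y = k then deg (fun _ => ⊤ : Fam δ k y F) else 0

theorem theta_of_le (hX : Cyc.IsSetup X δ) {F : X.Modules} (hF : P (fun x => δ x ≤ k) F) :
    theta δ k F = Cyc.sheafFun δ k F := funext fun y => by
  rw [theta, Cyc.sheafFun]
  split_ifs with hy
  · have hsub : ∀ ξ : Gen δ k y, Subsingleton ((St ξ.1).obj F) := fun ξ => not_not.mp fun h => by
      have := hF.supp h
      have := ξ.2.1
      omega
    rw [deg_of_bot hX (hF.mono' fun x hx => by omega) fun ξ => haveI := hsub ξ; Subsingleton.elim _ _, ker_top]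
    exact congrArg (fun n : ℕ∞ => ((n.toNat : ℕ) : ℤ)) Submodule.topEquiv.length_eq
  · rfl

/-- The Chow class of a module, modulo principal divisors. -/
def cls (hX : Cyc.IsSetup X δ) (k : ℤ) (F : X.Modules) : (X → ℤ) ⧸ principal hX k :=
  QuotientAddGroup.mk (theta δ k F)

theorem addOn_cls (hX : Cyc.IsSetup X δ) :
    CycK0Lib.AddOn (fun x => δ x ≤ k + 1) (cls hX k) := ⟨fun S hS h₁ h₂ h₃ => by
  classical
  unfold cls
  rw [← QuotientAddGroup.mk_add, eq_comm, QuotientAddGroup.eq]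
  obtain ⟨f, hf0, hf1, hf⟩ := exists_additive hX S hS h₁ h₂ h₃
  let f' : ∀ ξ : X, X.residueField ξ := fun ξ => if δ ξ = k + 1 then f ξ else 1
  refine ⟨f', fun ξ => ?_, fun ξ h => if_neg h, fun x => ?_, fun y hy => ?_⟩
  · simp only [f']
    split_ifs
    · exact hf0 ξ
    · exact one_ne_zero
  · haveI : Coh.IsQCoh S.X₂ := h₂.1.1
    obtain ⟨U, hU, hxU⟩ := QCohLib.exists_affine_nhd x
    refine ⟨U, U.isOpen, hxU, (AssPointLib.finite_assPoints h₂.1.2 U hU.isCompact).subset ?_⟩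
    rintro ξ ⟨hξU, hne⟩
    by_cases hδ : δ ξ = k + 1
    · refine ⟨hξU, AssPointLib.weak_of_maximal (by_contra fun hs => hne ((if_pos hδ).trans (hf1 ξ hs)))
        ((CycK0Lib.levels_delta (k := k + 1) hX.2.2).top_max h₂ (x := ξ) (by omega))⟩
    · exact absurd (if_neg hδ) hne
  · obtain ⟨T, hT, e⟩ := hf y hy
    simp only [Pi.add_apply, Pi.neg_apply, theta, if_pos hy]
    rw [finsum_eq_sum_of_support_subset _ (s := T.map ⟨Subtype.val, Subtype.val_injective⟩) fun ξ hξ => ?_]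
    · rw [Finset.sum_map]
      have e' : ∑ ξ ∈ T, Cyc.divFun δ ξ.1 (f' ξ.1) y = ∑ ξ ∈ T, Cyc.ordAt y ξ.1 ξ.2.2 (f ξ.1) :=
        Finset.sum_congr rfl fun ξ _ => by
          rw [Cyc.divFun, dif_pos ⟨ξ.2.2, by rw [hy, ξ.2.1]⟩]
          simp only [f', if_pos ξ.2.1]
      show _ = ∑ ξ ∈ T, Cyc.divFun δ ξ.1 (f' ξ.1) y
      rw [e', ← e]
      ring
    · by_contra hne
      refine hξ ?_
      show Cyc.divFun δ ξ (f' ξ) y = 0
      by_cases h : ξ ⤳ y ∧ δ y + 1 = δ ξ
      · have hδ : δ ξ = k + 1 := by omega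
        have hnot : (⟨ξ, hδ, h.1⟩ : Gen δ k y) ∉ T := fun hm => hne (Finset.mem_coe.2 (Finset.mem_map.2 ⟨_, hm, rfl⟩))
        have h1 : f' ξ = 1 := (if_pos hδ).trans (hT _ hnot)
        rw [h1]
        exact divFun_one hX ξ y
      · exact dif_neg h⟩

/-- A relation in `K₀` between modules of dimension `≤ k` makes the difference of cycles principal. -/
theorem sub_mem_principal (hX : Cyc.IsSetup X δ) {F G : X.Modules} (hF : P (fun x => δ x ≤ k) F)
    (hG : P (fun x => δ x ≤ k) G)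
    (h : Cyc.toK0CohQuot δ (k + 1) (k - 1) F = Cyc.toK0CohQuot δ (k + 1) (k - 1) G) :
    Cyc.sheafFun δ k F - Cyc.sheafFun δ k G ∈ principal hX k := by
  obtain ⟨ψ, hψ⟩ := CycK0Lib.exists_lift (addOn_cls (k := k) hX)
  have hle : ∀ x, δ x ≤ k → δ x ≤ k + 1 := fun x hx => by omega
  have hker : AddSubgroup.closure {c : KZero.K0sub (Cyc.CohLe δ (k + 1)) | ∃ M : X.Modules, Cyc.CohLe δ (k - 1) M ∧
      c = KZero.clSub (Cyc.CohLe δ (k + 1)) M} ≤ ψ.ker := by
    rw [AddSubgroup.closure_le]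
    rintro _ ⟨M, hM, rfl⟩
    refine (hψ M (P.mono' (D := fun x => δ x ≤ k - 1) (fun x h => by omega) hM)).trans ?_
    rw [cls, theta_of_le hX (P.mono' (D := fun x => δ x ≤ k - 1) (fun x h => by omega) hM),
      CycK0Lib.sheafFun_kills hM]
    rfl
  have e := hker ((QuotientAddGroup.eq (s := _)).1 h)
  change ψ (-KZero.clSub _ F + KZero.clSub _ G) = 0 at e
  replace e := ((map_add ψ _ _).trans (congrArg₂ (· + ·) ((map_neg ψ _).trans (congrArg Neg.neg (hψ F (hF.mono' hle))))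
    (hψ G (hG.mono' hle)))).symm.trans e
  rw [cls, cls, theta_of_le hX hF,
    theta_of_le hX hG, ← QuotientAddGroup.mk_neg, ← QuotientAddGroup.mk_add, QuotientAddGroup.eq_zero_iff] at e
  have := (principal hX k).neg_mem e
  rwa [neg_add, neg_neg, ← sub_eq_add_neg] at this

end CycDegLib

end
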