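import Groth.Agent.CycDegLib.Change

/-!
# The degree is additive in short exact sequences, up to principal divisors
-/

set_option autoImplicit false
set_option linter.style.haveILetI false
set_option linter.unusedSectionVars false

universe u v

open CategoryTheory CategoryTheory.Limits AlgebraicGeometry TopologicalSpace Opposite

noncomputable section

namespace CycDegLib

open DevissLib (St)
open CycK0Lib (P kmod kmod_smul)

variable {X : Scheme.{u}} {δ : X → ℤ} {k : ℤ}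

theorem ordAt_one [IsLocallyNoetherian X] (hX : Cyc.IsSetup X δ) {y ξ : X} (h : ξ ⤳ y) (hy : δ y = k)
    (hξ : δ ξ = k + 1) : Cyc.ordAt y ξ h 1 = 0 := by
  have hd := CycPushLib.dimBetween_le_one_of_drop hX h (show δ y + 1 = δ ξ by rw [hy, hξ])
  have e := CycDivLib.ordAt_mul h hd (one_ne_zero (α := X.residueField ξ)) (one_ne_zero (α := X.residueField ξ))
  rw [one_mul] at e
  omega

section Iterate

variable {F : X.Modules} {y : X}

open Classical in
/-- The family agreeing with `W` on a set and trivial outside. -/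
def onSet (W : Fam δ k y F) (T : Set (Gen δ k y)) : Fam δ k y F := fun ξ => if ξ ∈ T then W ξ else ⊥

theorem iterate (W : Fam δ k y F) (T : Finset (Gen δ k y)) (Q : Fam δ k y F → Prop) (G : Fam δ k y F → ℤ)
    (g : Gen δ k y → ℤ) (h : ∀ (W' : Fam δ k y F) ξ, W' ξ = W ξ → Q (put W' ξ ⊥) →
      Q W' ∧ G W' = G (put W' ξ ⊥) + g ξ) (h0 : Q fun _ => ⊥) :
    Q (onSet W ↑T) ∧ G (onSet W ↑T) = G (fun _ => ⊥) + ∑ ξ ∈ T, g ξ := by
  classical
  induction T using Finset.induction_on with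
  | empty =>
    have e : onSet W ↑(∅ : Finset (Gen δ k y)) = fun _ => ⊥ := funext fun ξ => if_neg (by simp)
    rw [e, Finset.sum_empty, add_zero]
    exact ⟨h0, rfl⟩
  | insert a T ha ih =>
    have e1 : onSet W ↑(insert a T) a = W a := if_pos (by simp)
    have e2 : put (onSet W ↑(insert a T)) a ⊥ = onSet W ↑T := funext fun ξ => by
      by_cases e : ξ = a
      · subst e
        rw [put_self, onSet, if_neg (by simpa using ha)]
      · rw [put_ne _ e]
        simp [onSet, e]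
    obtain ⟨hq, hG⟩ := h (onSet W ↑(insert a T)) a e1 (by rw [e2]; exact ih.1)
    refine ⟨hq, ?_⟩
    rw [hG, e2, ih.2, Finset.sum_insert ha]
    ring

theorem onSet_eq (W : Fam δ k y F) (T : Finset (Gen δ k y)) (hT : ∀ ξ, ξ ∉ T → Subsingleton ((St ξ.1).obj F)) :
    onSet W ↑T = W := funext fun ξ => by
  classical
  by_cases h : ξ ∈ T
  · exact if_pos (by simpa using h)
  · haveI := hT ξ h
    exact Subsingleton.elim _ _

end Iterate

section Epi

variable {B C : X.Modules} (p : B ⟶ C) {y : X}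

/-- The preimage of a family. -/
def preFam (U : Fam δ k y C) : Fam δ k y B := fun ξ => (U ξ).comap ((St ξ.1).map p).hom

theorem preFam_put (U : Fam δ k y C) (ξ : Gen δ k y) (S : Submodule (X.presheaf.stalk ξ.1) ((St ξ.1).obj C)) :
    preFam p (put U ξ S) = put (preFam p U) ξ (S.comap ((St ξ.1).map p).hom) := funext fun η => by
  by_cases e : η = ξ
  · subst e
    rw [put_self]
    show (put U η S η).comap _ = _
    rw [put_self]
  · rw [put_ne _ e]
    show (put U ξ S η).comap _ = _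
    rw [put_ne _ e]
    rfl

theorem map_ker_preFam [Epi p] (U : Fam δ k y C) : (ker (preFam p U)).map ((St y).map p).hom = ker U := by
  ext c
  constructor
  · rintro ⟨m, hm, rfl⟩ ξ
    rw [sp_map]
    exact hm ξ
  · intro hc
    obtain ⟨m, rfl⟩ := (ModuleCat.epi_iff_surjective ((St y).map p)).1 inferInstance c
    exact ⟨m, fun ξ => by
      show ((St ξ.1).map p).hom (sp B ξ.2.2 m) ∈ U ξ
      rw [← sp_map]
      exact hc ξ, rfl⟩

variable [IsLocallyNoetherian X] (hX : Cyc.IsSetup X δ) (hB : P (fun x => δ x ≤ k + 1) B)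
  (hC : P (fun x => δ x ≤ k + 1) C)

include hX hB hC

theorem exists_pre [Epi p] (ξ₀ : X) (hξ₀ : δ ξ₀ = k + 1) :
    ∀ (n : ℕ) (S : Submodule (X.presheaf.stalk ξ₀) ((St ξ₀).obj C)),
      (Module.length (X.presheaf.stalk ξ₀) S).toNat = n →
      ∃ f : X.residueField ξ₀, f ≠ 0 ∧ ∀ (y : X) (_ : δ y = k) (h : ξ₀ ⤳ y) (U : Fam δ k y C),
        U ⟨ξ₀, hξ₀, h⟩ = S → deg (preFam p U) - deg U =
          deg (preFam p (put U ⟨ξ₀, hξ₀, h⟩ ⊥)) - deg (put U ⟨ξ₀, hξ₀, h⟩ ⊥) + Cyc.ordAt y ξ₀ h f := by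
  classical
  intro n
  induction n using Nat.strong_induction_on with
  | _ n ih =>
    intro S hn
    by_cases hS : S = ⊥
    · refine ⟨1, one_ne_zero, fun y hy h U hU => ?_⟩
      rw [ordAt_one hX h hy hξ₀, add_zero]
      have e : put U ⟨ξ₀, hξ₀, h⟩ ⊥ = U := by
        rw [← hS, ← hU]
        exact put_eq_self U _
      rw [e]
    let φ := phi S
    have hφ : Function.Surjective φ := phi_surjective hC hS
    let π := ((St ξ₀).map p).hom
    let ψ : ↥(S.comap π) →ₗ[X.presheaf.stalk ξ₀] kmod ξ₀ :=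
      φ ∘ₗ (π ∘ₗ (S.comap π).subtype).codRestrict S fun w => w.2
    have hψ : Function.Surjective ψ := fun c => by
      obtain ⟨s, hs⟩ := hφ c
      obtain ⟨b, hb⟩ := (ModuleCat.epi_iff_surjective ((St ξ₀).map p)).1 inferInstance (s : (St ξ₀).obj C)
      refine ⟨⟨b, by show π b ∈ S; rw [show π b = s from hb]; exact s.2⟩, ?_⟩
      exact (congrArg φ (Subtype.ext hb)).trans hs
    have hker : kerS ψ = (kerS φ).comap π := by
      ext v
      rw [Submodule.mem_comap, mem_kerS, mem_kerS]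
      exact ⟨fun ⟨h1, h2⟩ => ⟨h1, h2⟩, fun ⟨h1, h2⟩ => ⟨h1, h2⟩⟩
    have hlt : (Module.length (X.presheaf.stalk ξ₀) (kerS φ)).toNat < n := by
      rw [← hn, length_kerS hX hC hφ hξ₀]; omega
    obtain ⟨f₁, hf₁, H₁⟩ := exists_change hX hB ξ₀ hξ₀ _ (S.comap π) rfl ψ hψ
    obtain ⟨f₂, hf₂, H₂⟩ := ih _ hlt (kerS φ) rfl
    refine ⟨f₁ * f₂, mul_ne_zero hf₁ hf₂, fun y hy h U hU => ?_⟩
    subst hU
    let ξ : Gen δ k y := ⟨ξ₀, hξ₀, h⟩
    have eC : deg U = idx (img h φ (ker U)) + deg (put U ξ (kerS φ)) := deg_step hX hC hy _ U rfl ξ hS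
    have eB := H₁ y hy h (preFam p U) rfl
    have ei : img h ψ (ker (preFam p U)) = img h φ (ker U) := by
      ext z
      constructor
      · rintro ⟨m, hm, w, hw, rfl⟩
        refine ⟨((St y).map p).hom m, by rw [← map_ker_preFam p U]; exact ⟨m, hm, rfl⟩, ⟨π w, w.2⟩, ?_, rfl⟩
        show π w = _
        rw [sp_map, hw]
      · rintro ⟨c, hc, w, hw, rfl⟩
        rw [← map_ker_preFam p U] at hc
        obtain ⟨m, hm, rfl⟩ := hc
        refine ⟨m, hm, ⟨sp B h m, hm ξ⟩, rfl, congrArg φ (Subtype.ext ?_)⟩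
        rw [sp_map] at hw
        exact hw.symm
    have e2 := H₂ y hy h (put U ξ (kerS φ)) (put_self U ξ _)
    rw [put_put] at e2
    rw [hker, ← preFam_put p U ⟨ξ₀, hξ₀, h⟩ (kerS φ), ei] at eB
    have hd := CycPushLib.dimBetween_le_one_of_drop hX h (show δ y + 1 = δ ξ₀ by rw [hy, hξ₀])
    rw [CycDivLib.ordAt_mul h hd hf₁ hf₂]
    linarith

end Epi

section Mono

variable {A B : X.Modules} (i : A ⟶ B) {y : X}

/-- The image of a family. -/
def pushFam (W : Fam δ k y A) : Fam δ k y B := fun ξ => (W ξ).map ((St ξ.1).map i).hom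

theorem pushFam_put (W : Fam δ k y A) (ξ : Gen δ k y) (S : Submodule (X.presheaf.stalk ξ.1) ((St ξ.1).obj A)) :
    pushFam i (put W ξ S) = put (pushFam i W) ξ (S.map ((St ξ.1).map i).hom) := funext fun η => by
  by_cases e : η = ξ
  · subst e
    rw [put_self]
    show (put W η S η).map _ = _
    rw [put_self]
  · rw [put_ne _ e]
    show (put W ξ S η).map _ = _
    rw [put_ne _ e]
    rfl

/-- The image of the kernel of a family. -/
def imKer (W : Fam δ k y A) : Submodule (X.presheaf.stalk y) ((St y).obj B) := (ker W).map ((St y).map i).hom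

theorem imKer_le (W : Fam δ k y A) : imKer i W ≤ ker (pushFam i W) := by
  rintro _ ⟨m, hm, rfl⟩ ξ
  rw [sp_map]
  exact ⟨_, hm ξ, rfl⟩

/-- The defect of an image family. -/
def defect (W : Fam δ k y A) : ℤ := deg (pushFam i W) - deg W - dz (ker (pushFam i W)) (imKer i W)

variable [IsLocallyNoetherian X] (hX : Cyc.IsSetup X δ) (hA : P (fun x => δ x ≤ k + 1) A)
  (hB : P (fun x => δ x ≤ k + 1) B)

include hX hA hB

theorem exists_push [Mono i] (ξ₀ : X) (hξ₀ : δ ξ₀ = k + 1) :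
    ∀ (n : ℕ) (S : Submodule (X.presheaf.stalk ξ₀) ((St ξ₀).obj A)),
      (Module.length (X.presheaf.stalk ξ₀) S).toNat = n →
      ∃ f : X.residueField ξ₀, f ≠ 0 ∧ ∀ (y : X) (_ : δ y = k) (h : ξ₀ ⤳ y) (W : Fam δ k y A),
        W ⟨ξ₀, hξ₀, h⟩ = S →
        dlen (ker (pushFam i (put W ⟨ξ₀, hξ₀, h⟩ ⊥))) (imKer i (put W ⟨ξ₀, hξ₀, h⟩ ⊥)) ≠ ⊤ →
        dlen (ker (pushFam i W)) (imKer i W) ≠ ⊤ ∧
          defect i W = defect i (put W ⟨ξ₀, hξ₀, h⟩ ⊥) + Cyc.ordAt y ξ₀ h f := by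
  classical
  intro n
  induction n using Nat.strong_induction_on with
  | _ n ih =>
    intro S hn
    by_cases hS : S = ⊥
    · refine ⟨1, one_ne_zero, fun y hy h W hW hfin => ?_⟩
      rw [ordAt_one hX h hy hξ₀, add_zero]
      have e : put W ⟨ξ₀, hξ₀, h⟩ ⊥ = W := by
        rw [← hS, ← hW]
        exact put_eq_self W _
      rw [e] at hfin ⊢
      exact ⟨hfin, rfl⟩
    let φ := phi S
    have hφ : Function.Surjective φ := phi_surjective hA hS
    let ι := ((St ξ₀).map i).hom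
    have hι : Function.Injective ι := (ModuleCat.mono_iff_injective _).mp inferInstance
    let ψ : ↥(S.map ι) →ₗ[X.presheaf.stalk ξ₀] kmod ξ₀ := φ ∘ₗ (Submodule.equivMapOfInjective ι hι S).symm.toLinearMap
    have hψ : Function.Surjective ψ := hφ.comp (LinearEquiv.surjective _)
    have hψι : ∀ w : ↥S, ψ ⟨ι w, ⟨w, w.2, rfl⟩⟩ = φ w := fun w => by
      show φ ((Submodule.equivMapOfInjective ι hι S).symm ⟨ι w, _⟩) = _
      congr 1
      rw [LinearEquiv.symm_apply_eq]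
      exact Subtype.ext rfl
    have hker : kerS ψ = (kerS φ).map ι := by
      ext v
      rw [mem_kerS]
      constructor
      · rintro ⟨⟨s, hs, rfl⟩, h2⟩
        exact ⟨s, mem_kerS.2 ⟨hs, (hψι ⟨s, hs⟩).symm.trans h2⟩, rfl⟩
      · rintro ⟨s, hs, rfl⟩
        obtain ⟨hs, h2⟩ := mem_kerS.1 hs
        exact ⟨⟨s, hs, rfl⟩, (hψι ⟨s, hs⟩).trans h2⟩
    have hlt : (Module.length (X.presheaf.stalk ξ₀) (kerS φ)).toNat < n := by
      rw [← hn, length_kerS hX hA hφ hξ₀]; omega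
    obtain ⟨f₁, hf₁, H₁⟩ := exists_change hX hB ξ₀ hξ₀ _ (S.map ι) rfl ψ hψ
    obtain ⟨f₂, hf₂, H₂⟩ := ih _ hlt (kerS φ) rfl
    refine ⟨f₁ * f₂, mul_ne_zero hf₁ hf₂, fun y hy h W hW hfin => ?_⟩
    subst hW
    let ξ : Gen δ k y := ⟨ξ₀, hξ₀, h⟩
    let W' := put W ξ (kerS φ)
    have e2 := H₂ y hy h W' (put_self W ξ _) (by rw [put_put]; exact hfin)
    rw [put_put] at e2
    let KB := ker (pushFam i W)
    let KB' := ker (pushFam i W')
    let M := imKer i W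
    let M' := imKer i W'
    have hW' : pushFam i W' = put (pushFam i W) ξ (kerS ψ) := by rw [hker]; exact pushFam_put i W ξ _
    have hmem : ∀ m ∈ KB, (m ∈ KB' ↔ sp B h m ∈ kerS ψ) := fun m hm => by
      show m ∈ ker (pushFam i W') ↔ _
      rw [hW']
      refine ⟨fun h' => by have := h' ξ; rwa [put_self] at this, fun h' η => ?_⟩
      by_cases e : η = ξ
      · subst e; rw [put_self]; exact h'
      · rw [put_ne _ e]; exact hm η
    have hKB : KB' ≤ KB := by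
      show ker (pushFam i W') ≤ _
      rw [hW']
      refine ker_mono fun η => ?_
      by_cases e : η = ξ
      · subst e; rw [put_self]; exact kerS_le ψ
      · rw [put_ne _ e]
    have hM : M ≤ KB := imKer_le i W
    have hinf : KB' ⊓ M = M' := by
      refine le_antisymm ?_ (le_inf (imKer_le i W') (Submodule.map_mono (ker_mono fun η => ?_)))
      · rintro _ ⟨hb, ⟨a, ha, rfl⟩⟩
        refine ⟨a, fun η => ?_, rfl⟩
        by_cases e : η = ξ
        · subst e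
          have h' := (hmem _ (hM ⟨a, ha, rfl⟩)).1 hb
          rw [hker, sp_map] at h'
          obtain ⟨s, hs, e'⟩ := h'
          rw [show W' ξ = kerS φ from put_self W ξ _]
          exact hι e' ▸ hs
        · rw [show W' η = W η from put_ne _ e _]
          exact ha η
      · by_cases e : η = ξ
        · subst e
          rw [show W' ξ = kerS φ from put_self W ξ _]
          exact kerS_le φ
        · rw [show W' η = W η from put_ne _ e _]
    have hsup : dlen (M ⊔ KB') M = dlen KB' M' := by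
      have a1 := dlen_map M.mkQ (K := KB') (L := ⊥) bot_le
      have a2 := dlen_map M.mkQ (K := M ⊔ KB') (L := M) le_sup_left
      rw [bot_sup_eq, Submodule.ker_mkQ, hinf] at a1
      rw [Submodule.ker_mkQ, sup_eq_left.2 (inf_le_right : (M ⊔ KB') ⊓ M ≤ M)] at a2
      rw [← a1, ← a2, Submodule.map_sup, Submodule.map_bot, show M.map M.mkQ = ⊥ from Submodule.mkQ_map_self M,
        bot_sup_eq]
    have eC : deg W = idx (img h φ (ker W)) + deg W' := deg_step hX hA hy _ W rfl ξ hS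
    have eB : deg (pushFam i W) = idx (img h ψ KB) + deg (pushFam i W') + Cyc.ordAt y ξ₀ h f₁ := by
      rw [hW']
      exact H₁ y hy h (pushFam i W) rfl
    have eimg : img h ψ M = img h φ (ker W) := by
      ext z
      constructor
      · rintro ⟨_, ⟨a, ha, rfl⟩, ⟨_, ⟨s, hs, rfl⟩⟩, hw, rfl⟩
        rw [sp_map] at hw
        exact ⟨a, ha, ⟨s, hs⟩, hι hw, (hψι ⟨s, hs⟩).symm⟩
      · rintro ⟨a, ha, s, hs, rfl⟩
        refine ⟨_, ⟨a, ha, rfl⟩, ⟨ι s, ⟨s, s.2, rfl⟩⟩, ?_, hψι s⟩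
        show ι s = _
        rw [sp_map, hs]
    have hl₁ : Lat (img h ψ KB) := lat_img hX hB hy (pushFam i W) ξ hψ
    have hl₂ : Lat (img h ψ M) := eimg ▸ lat_img hX hA hy W ξ hφ
    have hmono : img h ψ M ≤ img h ψ KB := by
      rintro _ ⟨m, hm, w, hw, rfl⟩
      exact ⟨m, hM hm, w, hw, rfl⟩
    have hq : dlen (img h ψ KB) (img h ψ M) = dlen KB (M ⊔ KB') := by
      rw [dlen_img (K := KB) h ψ (fun m hm => hm ξ) hmem hM]
      have a1 := dlen_map_injective KB.subtype KB.injective_subtype ⊤ (M.submoduleOf KB ⊔ KB'.submoduleOf KB)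
      rw [Submodule.map_top, Submodule.range_subtype, Submodule.map_sup, Submodule.submoduleOf,
        Submodule.submoduleOf, Submodule.map_comap_subtype, Submodule.map_comap_subtype,
        inf_eq_right.2 hM, inf_eq_right.2 hKB] at a1
      exact a1.symm
    have hsum : dlen KB M = dlen KB' M' + dlen (img h ψ KB) (img h ψ M) := by
      rw [dlen_add (le_sup_left : M ≤ M ⊔ KB') (sup_le hM hKB), hsup, hq]
    have hfinq := dlen_ne_top (lineHyp hX hy ξ) hl₁.fg hl₂.ne_bot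
    have hne : dlen KB M ≠ ⊤ := by
      rw [hsum]
      rw [Ne, ENat.add_eq_top, not_or]
      exact ⟨e2.1, hfinq⟩
    refine ⟨hne, ?_⟩
    have hdz : dz KB M = dz KB' M' + dz (img h ψ KB) (img h ψ M) := by
      rw [dz, hsum, ENat.toNat_add e2.1 hfinq, Nat.cast_add]
      rfl
    have hidx := idx_sub (lineHyp hX hy ξ) hl₁ hl₂ hmono
    rw [eimg] at hidx
    rw [eimg] at hdz
    have hd := CycPushLib.dimBetween_le_one_of_drop hX h (show δ y + 1 = δ ξ₀ by rw [hy, hξ₀])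
    rw [CycDivLib.ordAt_mul h hd hf₁ hf₂]
    have e2' := e2.2
    rw [defect] at e2'
    show deg (pushFam i W) - deg W - dz KB M = _
    change deg (pushFam i W') - deg W' - dz KB' M' = _ at e2'
    linarith

end Mono

/-- Additivity of the degree of the full family up to principal divisors. -/
theorem exists_additive [IsLocallyNoetherian X] (hX : Cyc.IsSetup X δ) (S : ShortComplex X.Modules)
    (hS : S.ShortExact) (h₁ : P (fun x => δ x ≤ k + 1) S.X₁) (h₂ : P (fun x => δ x ≤ k + 1) S.X₂)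
    (h₃ : P (fun x => δ x ≤ k + 1) S.X₃) :
    ∃ f : ∀ ξ : X, X.residueField ξ, (∀ ξ, f ξ ≠ 0) ∧ (∀ ξ, ξ ∉ CohB1.support S.X₂ → f ξ = 1) ∧
      ∀ y, δ y = k → ∃ T : Finset (Gen δ k y), (∀ ξ, ξ ∉ T → f ξ.1 = 1) ∧
        deg (fun _ => ⊤ : Fam δ k y S.X₂) - deg (fun _ => ⊤ : Fam δ k y S.X₁) -
          deg (fun _ => ⊤ : Fam δ k y S.X₃) = ∑ ξ ∈ T, Cyc.ordAt y ξ.1 ξ.2.2 (f ξ.1) := by
  classical
  haveI : Mono S.f := hS.mono_f
  haveI : Epi S.g := hS.epi_g
  haveI := hX.1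
  have hex : ∀ ξ : X, ∃ f : X.residueField ξ, f ≠ 0 ∧ (ξ ∉ CohB1.support S.X₂ → f = 1) ∧
      ∀ hξ : δ ξ = k + 1, ξ ∈ CohB1.support S.X₂ → ∃ f₁ f₂ : X.residueField ξ, f₁ ≠ 0 ∧ f₂ ≠ 0 ∧ f = f₁ * f₂ ∧
        (∀ (y : X) (_ : δ y = k) (h : ξ ⤳ y) (U : Fam δ k y S.X₃), U ⟨ξ, hξ, h⟩ = ⊤ →
          deg (preFam S.g U) - deg U = deg (preFam S.g (put U ⟨ξ, hξ, h⟩ ⊥)) - deg (put U ⟨ξ, hξ, h⟩ ⊥) +
            Cyc.ordAt y ξ h f₁) ∧
        (∀ (y : X) (_ : δ y = k) (h : ξ ⤳ y) (W : Fam δ k y S.X₁), W ⟨ξ, hξ, h⟩ = ⊤ →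
          dlen (ker (pushFam S.f (put W ⟨ξ, hξ, h⟩ ⊥))) (imKer S.f (put W ⟨ξ, hξ, h⟩ ⊥)) ≠ ⊤ →
          dlen (ker (pushFam S.f W)) (imKer S.f W) ≠ ⊤ ∧
            defect S.f W = defect S.f (put W ⟨ξ, hξ, h⟩ ⊥) + Cyc.ordAt y ξ h f₂) := by
    intro ξ
    by_cases hc : δ ξ = k + 1 ∧ ξ ∈ CohB1.support S.X₂
    · obtain ⟨f₁, hf₁, H₁⟩ := exists_pre S.g hX h₂ h₃ ξ hc.1 _ ⊤ rfl
      obtain ⟨f₂, hf₂, H₂⟩ := exists_push S.f hX h₁ h₂ ξ hc.1 _ ⊤ rfl
      exact ⟨f₁ * f₂, mul_ne_zero hf₁ hf₂, fun h => absurd hc.2 h,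
        fun _ _ => ⟨f₁, f₂, hf₁, hf₂, rfl, H₁, H₂⟩⟩
    · exact ⟨1, one_ne_zero, fun _ => rfl, fun hξ hs => absurd ⟨hξ, hs⟩ hc⟩
  choose f hf0 hf1 hf using hex
  refine ⟨f, hf0, hf1, fun y hy => ?_⟩
  obtain ⟨T₀, hT₀⟩ := exists_finset_gen hX h₂ y
  let T := T₀.filter fun ξ => ξ.1 ∈ CohB1.support S.X₂
  have hT : ∀ ξ : Gen δ k y, ξ ∉ T → ξ.1 ∉ CohB1.support S.X₂ := fun ξ hξ hs => by
    by_cases h : ξ ∈ T₀
    · exact hξ (Finset.mem_filter.2 ⟨h, hs⟩)
    · exact hs (hT₀ ξ h)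
  refine ⟨T, fun ξ hξ => hf1 ξ.1 (hT ξ hξ), ?_⟩
  have hsub₃ : ∀ ξ, ξ ∉ T → Subsingleton ((St ξ.1).obj S.X₃) := fun ξ hξ =>
    not_not.mp fun h => hT ξ hξ (DevissLib.support_epi S.g h)
  have hsub₁ : ∀ ξ, ξ ∉ T → Subsingleton ((St ξ.1).obj S.X₁) := fun ξ hξ =>
    not_not.mp fun h => hT ξ hξ (DevissLib.support_mono S.f h)
  have hf' : ∀ ξ : T, ∃ f₁ f₂ : X.residueField ξ.1.1, f₁ ≠ 0 ∧ f₂ ≠ 0 ∧ f ξ.1.1 = f₁ * f₂ ∧ _ :=
    fun ξ => hf ξ.1.1 ξ.1.2.1 (Finset.mem_filter.1 ξ.2).2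
  choose g₁ g₂ hg₁ hg₂ hg H₁ H₂ using hf'
  let v₁ : Gen δ k y → ℤ := fun ξ => if h : ξ ∈ T then Cyc.ordAt y ξ.1 ξ.2.2 (g₁ ⟨ξ, h⟩) else 0
  let v₂ : Gen δ k y → ℤ := fun ξ => if h : ξ ∈ T then Cyc.ordAt y ξ.1 ξ.2.2 (g₂ ⟨ξ, h⟩) else 0
  obtain ⟨-, e₃⟩ := iterate (fun _ => ⊤ : Fam δ k y S.X₃) T (fun _ => True)
    (fun U => deg (preFam S.g U) - deg U) v₁ (fun U ξ hU _ => ⟨trivial, by
      by_cases h : ξ ∈ T
      · rw [show v₁ ξ = _ from dif_pos h]
        exact H₁ ⟨ξ, h⟩ y hy ξ.2.2 U hU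
      · haveI := hsub₃ ξ h
        have e : put U ξ ⊥ = U := by rw [Subsingleton.elim (⊥ : Submodule _ ((St ξ.1).obj S.X₃)) (U ξ)]; exact put_eq_self U ξ
        rw [show v₁ ξ = _ from dif_neg h, e, add_zero]⟩) trivial
  obtain ⟨hq₁, e₁⟩ := iterate (fun _ => ⊤ : Fam δ k y S.X₁) T
    (fun W => dlen (ker (pushFam S.f W)) (imKer S.f W) ≠ ⊤) (defect S.f) v₂ (fun W ξ hW hq => by
      by_cases h : ξ ∈ T
      · rw [show v₂ ξ = _ from dif_pos h]
        exact H₂ ⟨ξ, h⟩ y hy ξ.2.2 W hW hq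
      · haveI := hsub₁ ξ h
        have e : put W ξ ⊥ = W := by rw [Subsingleton.elim (⊥ : Submodule _ ((St ξ.1).obj S.X₁)) (W ξ)]; exact put_eq_self W ξ
        rw [e] at hq ⊢
        exact ⟨hq, by rw [show v₂ ξ = _ from dif_neg h, add_zero]⟩) (by
      refine ne_top_of_le_ne_top ?_ (Module.length_le_of_surjective (Submodule.mkQ _) (Submodule.mkQ_surjective _))
      refine length_ne_top_of_sp_eq_zero hX h₂ hy _ fun m hm ξ => ?_
      have := hm ξ
      rw [show pushFam S.f (fun _ => ⊥ : Fam δ k y S.X₁) ξ = ⊥ from Submodule.map_bot _, Submodule.mem_bot] at this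
      exact this)
  rw [onSet_eq _ T hsub₃] at e₃
  rw [onSet_eq _ T hsub₁] at e₁ hq₁
  -- the bases
  have hexact : ∀ x : X, LinearMap.ker ((St x).map S.g).hom = LinearMap.range ((St x).map S.f).hom := fun x =>
    LinearMap.exact_iff.1 ((ShortComplex.ShortExact.moduleCat_exact_iff_function_exact (S.map (St x))).1
      (hS.map_of_exact (St x)).exact)
  have hpre : preFam S.g (fun _ => ⊥ : Fam δ k y S.X₃) = pushFam S.f (fun _ => ⊤ : Fam δ k y S.X₁) :=
    funext fun ξ => by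
      show Submodule.comap _ ⊥ = Submodule.map _ ⊤
      rw [Submodule.comap_bot, Submodule.map_top]
      exact hexact ξ.1
  have hKB : ker (pushFam S.f (fun _ => ⊥ : Fam δ k y S.X₁)) =
      (ker (fun _ => ⊥ : Fam δ k y S.X₂) : Submodule _ _) := by
    congr 1
    exact funext fun ξ => Submodule.map_bot _
  have hb0 : defect S.f (fun _ => ⊥ : Fam δ k y S.X₁) = 0 := by
    have hfinB : Module.length (X.presheaf.stalk y) (ker (fun _ => ⊥ : Fam δ k y S.X₂)) ≠ ⊤ :=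
      length_ne_top_of_sp_eq_zero hX h₂ hy _ fun m hm ξ => (Submodule.mem_bot _).1 (hm ξ)
    have hle : imKer S.f (fun _ => ⊥ : Fam δ k y S.X₁) ≤ ker (fun _ => ⊥ : Fam δ k y S.X₂) :=
      hKB ▸ imKer_le S.f (fun _ => ⊥ : Fam δ k y S.X₁)
    have hadd := dz_add (bot_le : (⊥ : Submodule _ _) ≤ imKer S.f (fun _ => ⊥ : Fam δ k y S.X₁)) hle
      (by rwa [dlen_bot])
    have hinj : Function.Injective ((St y).map S.f).hom := (ModuleCat.mono_iff_injective _).mp inferInstance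
    have hlen : dz (imKer S.f (fun _ => ⊥ : Fam δ k y S.X₁)) ⊥ =
        ((Module.length (X.presheaf.stalk y) (ker (fun _ => ⊥ : Fam δ k y S.X₁))).toNat : ℤ) := by
      rw [dz, dlen_bot]
      exact congrArg (fun n : ℕ∞ => ((n.toNat : ℕ) : ℤ)) (Submodule.equivMapOfInjective _ hinj _).length_eq.symm
    rw [dz, dlen_bot, hlen] at hadd
    rw [defect, deg_of_bot hX h₂ (W := pushFam S.f (fun _ => ⊥ : Fam δ k y S.X₁)) (fun ξ => Submodule.map_bot _),
      deg_of_bot hX h₁ (W := (fun _ => ⊥ : Fam δ k y S.X₁)) (fun _ => rfl), hKB]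
    linarith
  have hpretop : preFam S.g (fun _ => ⊤ : Fam δ k y S.X₃) = (fun _ => ⊤) := funext fun ξ => Submodule.comap_top _
  have hqtop : dz (ker (pushFam S.f (fun _ => ⊤ : Fam δ k y S.X₁))) (imKer S.f (fun _ => ⊤ : Fam δ k y S.X₁)) =
      deg (fun _ => ⊥ : Fam δ k y S.X₃) := by
    rw [deg_of_bot hX h₃ (fun _ => rfl), dz]
    congr 2
    rw [← dlen_bot (ker (fun _ => ⊥ : Fam δ k y S.X₃)), ← map_ker_preFam S.g (fun _ => ⊥ : Fam δ k y S.X₃), hpre,
      show (⊥ : Submodule (X.presheaf.stalk y) ((St y).obj S.X₃)) =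
        (⊥ : Submodule (X.presheaf.stalk y) ((St y).obj S.X₂)).map ((St y).map S.g).hom from (Submodule.map_bot _).symm,
      dlen_map _ bot_le, bot_sup_eq, hexact y]
    congr 3
    rw [imKer, ker_top, Submodule.map_top, inf_eq_right.2]
    refine le_trans ?_ (imKer_le S.f _)
    rw [imKer, ker_top, Submodule.map_top]
  have hsum : ∑ ξ ∈ T, Cyc.ordAt y ξ.1 ξ.2.2 (f ξ.1) = ∑ ξ ∈ T, v₁ ξ + ∑ ξ ∈ T, v₂ ξ := by
    rw [← Finset.sum_add_distrib]
    refine Finset.sum_congr rfl fun ξ h => ?_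
    rw [show v₁ ξ = _ from dif_pos h, show v₂ ξ = _ from dif_pos h, hg ⟨ξ, h⟩]
    exact CycDivLib.ordAt_mul ξ.2.2 (CycPushLib.dimBetween_le_one_of_drop hX ξ.2.2
      (show δ y + 1 = δ ξ.1 by rw [hy, ξ.2.1])) (hg₁ ⟨ξ, h⟩) (hg₂ ⟨ξ, h⟩)
  rw [hb0, defect, hqtop] at e₁
  simp only [hpretop, hpre] at e₃
  rw [hsum]
  linarith

end CycDegLib

end
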