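import Groth.Agent.CycDegLib.Deg

/-!
# Changing the functional changes the degree by a principal divisor
-/

set_option autoImplicit false
set_option linter.style.haveILetI false
set_option linter.unusedSectionVars false

universe u

open CategoryTheory CategoryTheory.Limits AlgebraicGeometry TopologicalSpace Opposite

noncomputable section

namespace CycDegLib

open DevissLib (St)
open CycK0Lib (P kmod kmod_smul)

variable {X : Scheme.{u}} {δ : X → ℤ} {k : ℤ} {F : X.Modules}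

/-- Restriction of a functional to a smaller submodule. -/
def restr {ξ : X} {S S' : Submodule (X.presheaf.stalk ξ) ((St ξ).obj F)} (h : S' ≤ S)
    (ψ : ↥S →ₗ[X.presheaf.stalk ξ] kmod ξ) : ↥S' →ₗ[X.presheaf.stalk ξ] kmod ξ :=
  ψ ∘ₗ Submodule.inclusion h

theorem kerS_restr {ξ : X} {S S' : Submodule (X.presheaf.stalk ξ) ((St ξ).obj F)} (h : S' ≤ S)
    (ψ : ↥S →ₗ[X.presheaf.stalk ξ] kmod ξ) : kerS (restr h ψ) = S' ⊓ kerS ψ := by
  ext v
  rw [Submodule.mem_inf, mem_kerS, mem_kerS]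
  exact ⟨fun ⟨h1, h2⟩ => ⟨h1, h h1, h2⟩, fun ⟨h1, _, h2⟩ => ⟨h1, h2⟩⟩

theorem img_restr {y ξ : X} (hs : ξ ⤳ y) {S S' : Submodule (X.presheaf.stalk ξ) ((St ξ).obj F)} (h : S' ≤ S)
    (ψ : ↥S →ₗ[X.presheaf.stalk ξ] kmod ξ) {K : Submodule (X.presheaf.stalk y) ((St y).obj F)}
    (hK : ∀ m ∈ K, sp F hs m ∈ S') : img hs (restr h ψ) K = img hs ψ K := by
  ext z
  constructor
  · rintro ⟨m, hm, w, hw, rfl⟩
    exact ⟨m, hm, Submodule.inclusion h w, hw, rfl⟩
  · rintro ⟨m, hm, w, hw, rfl⟩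
    exact ⟨m, hm, ⟨w, hw ▸ hK m hm⟩, hw, rfl⟩

variable [IsLocallyNoetherian X] (hX : Cyc.IsSetup X δ) (hF : P (fun x => δ x ≤ k + 1) F)

include hX hF

/-- A change of functional at `ξ₀` changes the index by the order of a fixed rational function. -/
theorem exists_change (ξ₀ : X) (hξ₀ : δ ξ₀ = k + 1) :
    ∀ (n : ℕ) (S : Submodule (X.presheaf.stalk ξ₀) ((St ξ₀).obj F)),
      (Module.length (X.presheaf.stalk ξ₀) S).toNat = n →
      ∀ ψ : ↥S →ₗ[X.presheaf.stalk ξ₀] kmod ξ₀, Function.Surjective ψ →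
      ∃ f : X.residueField ξ₀, f ≠ 0 ∧ ∀ (y : X) (_ : δ y = k) (h : ξ₀ ⤳ y) (W : Fam δ k y F),
        W ⟨ξ₀, hξ₀, h⟩ = S → deg W = idx (img h ψ (ker W)) + deg (put W ⟨ξ₀, hξ₀, h⟩ (kerS ψ)) +
          Cyc.ordAt y ξ₀ h f := by
  classical
  intro n
  induction n using Nat.strong_induction_on with
  | _ n ih =>
    intro S hn ψ hψ
    have hS : S ≠ ⊥ := fun e => by
      obtain ⟨w, hw⟩ := hψ (show kmod ξ₀ from (1 : X.residueField ξ₀))
      have : w = 0 := Subtype.ext (by simpa [e] using w.2)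
      rw [this, map_zero] at hw
      exact (zero_ne_one (α := X.residueField ξ₀)) hw
    let φ := phi S
    have hφ : Function.Surjective φ := phi_surjective hF hS
    have estep : ∀ (y : X), δ y = k → ∀ (h : ξ₀ ⤳ y) (W : Fam δ k y F), W ⟨ξ₀, hξ₀, h⟩ = S →
        deg W = idx (img h φ (ker W)) + deg (put W ⟨ξ₀, hξ₀, h⟩ (kerS φ)) := by
      intro y hy h W hW
      have e := deg_step hX hF hy _ W rfl ⟨ξ₀, hξ₀, h⟩ (by rw [hW]; exact hS)
      rw [jump, step, hW] at e
      exact e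
    by_cases hle : LinearMap.ker φ ≤ LinearMap.ker ψ
    · obtain ⟨w₀, hw₀⟩ := hφ (show kmod ξ₀ from (1 : X.residueField ξ₀))
      let c : X.residueField ξ₀ := ψ w₀
      have hc : ∀ w : ↥S, (show X.residueField ξ₀ from ψ w) = c * (show X.residueField ξ₀ from φ w) := by
        intro w
        obtain ⟨r, hr⟩ := smul_kmod_one (φ w)
        have h0 : ψ (w - r • w₀) = 0 := LinearMap.mem_ker.1 (hle (LinearMap.mem_ker.2 (by
          rw [map_sub, map_smul, hw₀, hr, sub_self])))
        rw [map_sub, map_smul, sub_eq_zero] at h0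
        have e1 : (show X.residueField ξ₀ from φ w) = X.residue ξ₀ r :=
          hr.symm.trans ((kmod_smul ξ₀ r _).trans (mul_one _))
        rw [e1]
        exact h0.trans ((kmod_smul ξ₀ r _).trans (mul_comm _ _))
      have hc0 : c ≠ 0 := fun e => by
        obtain ⟨w, hw⟩ := hψ (show kmod ξ₀ from (1 : X.residueField ξ₀))
        have := hc w
        rw [e, zero_mul] at this
        exact (one_ne_zero (α := X.residueField ξ₀)) (hw.symm.trans this)
      refine ⟨c, hc0, fun y hy h W hW => ?_⟩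
      subst hW
      have ek : kerS ψ = kerS φ := by
        ext v
        rw [mem_kerS, mem_kerS]
        refine exists_congr fun hv => ⟨fun e => ?_, fun e => LinearMap.mem_ker.1 (hle (LinearMap.mem_ker.2 e))⟩
        have := hc ⟨v, hv⟩
        rw [e] at this
        exact (mul_eq_zero.1 this.symm).resolve_left hc0
      have ei : img h ψ (ker W) = (img h φ (ker W)).map (mulBy (show Kap h from c)) := by
        ext z
        constructor
        · rintro ⟨m, hm, w, hw, rfl⟩
          exact ⟨_, ⟨m, hm, w, hw, rfl⟩, (hc w).symm⟩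
        · rintro ⟨_, ⟨m, hm, w, hw, rfl⟩, rfl⟩
          exact ⟨m, hm, w, hw, hc w⟩
      rw [estep y hy h W rfl, ek, ei,
        idx_map_ordAt hX hy ⟨ξ₀, hξ₀, h⟩ (lat_img hX hF hy W ⟨ξ₀, hξ₀, h⟩ hφ) hc0]
      ring
    · obtain ⟨w₁, hw₁, hw₁'⟩ := SetLike.not_le_iff_exists.1 hle
      have hψ₁ : Function.Surjective (restr (kerS_le φ) ψ) :=
        surjective_of_ne_zero (w := ⟨w₁, ⟨w₁, hw₁, rfl⟩⟩) (fun e => hw₁' (LinearMap.mem_ker.2 e))
      have hnle : ¬ LinearMap.ker ψ ≤ LinearMap.ker φ := by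
        intro h2
        obtain ⟨w₀, hw₀⟩ := hψ (show kmod ξ₀ from (1 : X.residueField ξ₀))
        obtain ⟨r, hr⟩ := smul_kmod_one (ψ w₁)
        have h0 : φ (w₁ - r • w₀) = 0 := LinearMap.mem_ker.1 (h2 (LinearMap.mem_ker.2 (by
          rw [map_sub, map_smul, hw₀, hr, sub_self])))
        rw [map_sub, map_smul, LinearMap.mem_ker.1 hw₁, zero_sub, neg_eq_zero] at h0
        have hr0 : X.residue ξ₀ r = 0 := by
          by_contra hr0
          obtain ⟨v, hv⟩ := hφ (show kmod ξ₀ from (1 : X.residueField ξ₀))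
          have hφ0 : φ w₀ = 0 :=
            (mul_eq_zero.1 ((kmod_smul ξ₀ r _).symm.trans h0)).resolve_left hr0
          obtain ⟨t, ht⟩ := smul_kmod_one (ψ v)
          have h3 : φ (v - t • w₀) = 0 := LinearMap.mem_ker.1 (h2 (LinearMap.mem_ker.2 (by
            rw [map_sub, map_smul, hw₀, ht, sub_self])))
          rw [map_sub, map_smul, hφ0, smul_zero, sub_zero, hv] at h3
          exact (one_ne_zero (α := X.residueField ξ₀)) h3
        refine hw₁' (LinearMap.mem_ker.2 (hr.symm.trans ((kmod_smul ξ₀ r _).trans ?_)))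
        rw [hr0, zero_mul]
        rfl
      obtain ⟨w₂, hw₂, hw₂'⟩ := SetLike.not_le_iff_exists.1 hnle
      have hφ₂ : Function.Surjective (restr (kerS_le ψ) φ) :=
        surjective_of_ne_zero (w := ⟨w₂, ⟨w₂, hw₂, rfl⟩⟩) (fun e => hw₂' (LinearMap.mem_ker.2 e))
      have hlt : (Module.length (X.presheaf.stalk ξ₀) (kerS φ)).toNat < n := by
        rw [← hn, length_kerS hX hF hφ hξ₀]; omega
      have hlt' : (Module.length (X.presheaf.stalk ξ₀) (kerS ψ)).toNat < n := by
        rw [← hn, length_kerS hX hF hψ hξ₀]; omega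
      obtain ⟨f₁, hf₁, H₁⟩ := ih _ hlt (kerS φ) rfl _ hψ₁
      obtain ⟨f₂, hf₂, H₂⟩ := ih _ hlt' (kerS ψ) rfl _ hφ₂
      refine ⟨f₁ / f₂, div_ne_zero hf₁ hf₂, fun y hy h W hW => ?_⟩
      subst hW
      haveI := hX.1
      let ξ : Gen δ k y := ⟨ξ₀, hξ₀, h⟩
      let W₁ := put W ξ (kerS φ)
      let W₂ := put W ξ (kerS ψ)
      have hm₁ : ∀ m ∈ ker W₁, sp F h m ∈ kerS φ := fun m hm => by
        have := hm ξ; rwa [show W₁ ξ = kerS φ from put_self W ξ _] at this
      have hm₂ : ∀ m ∈ ker W₂, sp F h m ∈ kerS ψ := fun m hm => by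
        have := hm ξ; rwa [show W₂ ξ = kerS ψ from put_self W ξ _] at this
      have e0 : deg W = idx (img h φ (ker W)) + deg W₁ := estep y hy h W rfl
      have e1 := H₁ y hy h W₁ (put_self W ξ _)
      have e2 := H₂ y hy h W₂ (put_self W ξ _)
      rw [img_restr h _ ψ hm₁, put_put, kerS_restr] at e1
      rw [img_restr h _ φ hm₂, put_put, kerS_restr, inf_comm] at e2
      have key := diamond hX hF hy (W := W) ξ ξ (ψ := φ) (ψ' := ψ) hφ hψ rfl rfl ?_ ?_
      rotate_left
      · rw [← img_restr h (kerS_le φ) ψ hm₁]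
        have hl : ∀ (S : Submodule (X.presheaf.stalk ξ₀) ((St ξ₀).obj F)) (_ : W₁ ξ = S)
            (χ : ↥S →ₗ[X.presheaf.stalk ξ₀] kmod ξ₀), Function.Surjective χ → Lat (img h χ (ker W₁)) := by
          rintro S rfl χ hχ
          exact lat_img hX hF hy W₁ ξ hχ
        exact hl _ (put_self W ξ _) _ hψ₁
      · rw [← img_restr h (kerS_le ψ) φ hm₂]
        have hl : ∀ (S : Submodule (X.presheaf.stalk ξ₀) ((St ξ₀).obj F)) (_ : W₂ ξ = S)
            (χ : ↥S →ₗ[X.presheaf.stalk ξ₀] kmod ξ₀), Function.Surjective χ → Lat (img h χ (ker W₂)) := by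
          rintro S rfl χ hχ
          exact lat_img hX hF hy W₂ ξ hχ
        exact hl _ (put_self W ξ _) _ hφ₂
      have hd := CycPushLib.dimBetween_le_one_of_drop hX h (show δ y + 1 = δ ξ₀ by rw [hy, hξ₀])
      rw [CycDivLib.ordAt_div h hd hf₁ hf₂]
      have key' : idx (img h φ (ker W)) + idx (img h ψ (ker W₁)) =
          idx (img h ψ (ker W)) + idx (img h φ (ker W₂)) := key
      show deg W = idx (img h ψ (ker W)) + deg W₂ + _
      linarith

end CycDegLib

end
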