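import Groth.Agent.CycDegLib.Stalk
import Groth.Agent.CycK0Lib.Ev

/-!
# The degree of a coherent module at a point, relative to chosen flags at the generizations
-/

set_option autoImplicit false
set_option linter.style.haveILetI false
set_option linter.unusedSectionVars false

universe u

open CategoryTheory CategoryTheory.Limits AlgebraicGeometry TopologicalSpace Opposite
open IsLocalRing (maximalIdeal)

noncomputable section

namespace CycDegLib

open DevissLib (St)
open CycK0Lib (P kmod kmod_smul)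

variable {X : Scheme.{u}} {δ : X → ℤ} {k : ℤ} {F : X.Modules}

/-- The kernel of a functional on a submodule, as a submodule of the ambient module. -/
def kerS {ξ : X} {S : Submodule (X.presheaf.stalk ξ) ((St ξ).obj F)} (ψ : ↥S →ₗ[X.presheaf.stalk ξ] kmod ξ) :
    Submodule (X.presheaf.stalk ξ) ((St ξ).obj F) :=
  (LinearMap.ker ψ).map S.subtype

theorem kerS_le {ξ : X} {S : Submodule (X.presheaf.stalk ξ) ((St ξ).obj F)}
    (ψ : ↥S →ₗ[X.presheaf.stalk ξ] kmod ξ) : kerS ψ ≤ S := Submodule.map_subtype_le _ _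

theorem mem_kerS {ξ : X} {S : Submodule (X.presheaf.stalk ξ) ((St ξ).obj F)}
    {ψ : ↥S →ₗ[X.presheaf.stalk ξ] kmod ξ} {v : (St ξ).obj F} : v ∈ kerS ψ ↔ ∃ h : v ∈ S, ψ ⟨v, h⟩ = 0 := by
  constructor
  · rintro ⟨w, hw, rfl⟩
    exact ⟨w.2, hw⟩
  · rintro ⟨h, h0⟩
    exact ⟨⟨v, h⟩, h0, rfl⟩

theorem smul_kmod_one {ξ : X} (c : kmod ξ) :
    ∃ r : X.presheaf.stalk ξ, r • (show kmod ξ from (1 : X.residueField ξ)) = c := by
  obtain ⟨r, hr⟩ := IsLocalRing.residue_surjective (R := X.presheaf.stalk ξ) c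
  exact ⟨r, (kmod_smul ξ r _).trans ((mul_one _).trans hr)⟩

theorem surjective_of_ne_zero {ξ : X} {S : Submodule (X.presheaf.stalk ξ) ((St ξ).obj F)}
    {ψ : ↥S →ₗ[X.presheaf.stalk ξ] kmod ξ} {w : ↥S} (hw : ψ w ≠ 0) : Function.Surjective ψ := fun c => by
  let a : X.residueField ξ := ψ w
  obtain ⟨r, hr⟩ := X.residue_surjective ξ ((show X.residueField ξ from c) * a⁻¹)
  refine ⟨r • w, (map_smul ψ r w).trans ((kmod_smul ξ r _).trans ?_)⟩
  show X.residue ξ r * a = _
  rw [hr, mul_assoc, inv_mul_cancel₀ (show a ≠ 0 from hw), mul_one]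

theorem exists_functional {ξ : X} [Module.Finite (X.presheaf.stalk ξ) ((St ξ).obj F)]
    [IsNoetherianRing (X.presheaf.stalk ξ)] {S : Submodule (X.presheaf.stalk ξ) ((St ξ).obj F)} (hS : S ≠ ⊥) :
    ∃ ψ : ↥S →ₗ[X.presheaf.stalk ξ] kmod ξ, Function.Surjective ψ := by
  haveI : Nontrivial ↥S := Submodule.nontrivial_iff_ne_bot.2 hS
  obtain ⟨Q, hQ, -⟩ := (eq_top_or_exists_le_coatom (⊥ : Submodule (X.presheaf.stalk ξ) ↥S)).resolve_left bot_ne_top
  haveI : IsSimpleModule (X.presheaf.stalk ξ) (↥S ⧸ Q) := isSimpleModule_iff_isCoatom.2 hQ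
  obtain ⟨m, hm, ⟨e⟩⟩ := isSimpleModule_iff_quot_maximal.1 (inferInstance : IsSimpleModule (X.presheaf.stalk ξ) (↥S ⧸ Q))
  obtain rfl := IsLocalRing.eq_maximalIdeal hm
  exact ⟨e.toLinearMap ∘ₗ Q.mkQ, e.surjective.comp (Submodule.mkQ_surjective Q)⟩

/-- The chosen functional on a submodule. -/
def phi {ξ : X} (S : Submodule (X.presheaf.stalk ξ) ((St ξ).obj F)) : ↥S →ₗ[X.presheaf.stalk ξ] kmod ξ := by
  classical
  exact if h : ∃ ψ : ↥S →ₗ[X.presheaf.stalk ξ] kmod ξ, Function.Surjective ψ then h.choose else 0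

theorem phi_surjective [IsLocallyNoetherian X] (hF : P (fun x => δ x ≤ k + 1) F) {ξ : X}
    {S : Submodule (X.presheaf.stalk ξ) ((St ξ).obj F)} (hS : S ≠ ⊥) : Function.Surjective (phi S) := by
  classical
  haveI := finite_stalk hF.1 ξ
  have h := exists_functional hS
  rw [phi, dif_pos h]
  exact h.choose_spec

/-- The values of a functional on the germs in `K`. -/
def img {y ξ : X} (h : ξ ⤳ y) {S : Submodule (X.presheaf.stalk ξ) ((St ξ).obj F)}
    (ψ : ↥S →ₗ[X.presheaf.stalk ξ] kmod ξ) (K : Submodule (X.presheaf.stalk y) ((St y).obj F)) :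
    Submodule (X.presheaf.stalk y) (Kap h) where
  carrier := {z | ∃ m ∈ K, ∃ w : ↥S, (w : (St ξ).obj F) = sp F h m ∧ (show Kap h from ψ w) = z}
  add_mem' := by
    rintro _ _ ⟨m, hm, w, hw, rfl⟩ ⟨m', hm', w', hw', rfl⟩
    exact ⟨m + m', K.add_mem hm hm', w + w', by rw [map_add, ← hw, ← hw']; rfl, map_add ψ w w'⟩
  zero_mem' := ⟨0, K.zero_mem, 0, (map_zero _).symm, map_zero ψ⟩
  smul_mem' := by
    rintro r _ ⟨m, hm, w, hw, rfl⟩
    refine ⟨r • m, K.smul_mem r hm, (X.presheaf.stalkSpecializes h).hom r • w, ?_, ?_⟩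
    · rw [sp_smul, ← hw]; rfl
    · refine (map_smul ψ _ w).trans ((kmod_smul ξ _ _).trans ?_)
      exact (Algebra.smul_def r (show Kap h from ψ w)).symm

/-- The evaluation of a functional on germs whose specialization lies in its domain. -/
def evK {y ξ : X} (h : ξ ⤳ y) {S : Submodule (X.presheaf.stalk ξ) ((St ξ).obj F)}
    (ψ : ↥S →ₗ[X.presheaf.stalk ξ] kmod ξ) (K : Submodule (X.presheaf.stalk y) ((St y).obj F))
    (hK : ∀ m ∈ K, sp F h m ∈ S) : ↥K →ₗ[X.presheaf.stalk y] Kap h where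
  toFun m := (show Kap h from ψ ⟨sp F h m, hK m m.2⟩)
  map_add' a b := by
    refine (congrArg ψ (Subtype.ext ?_)).trans (map_add ψ ⟨sp F h a, hK a a.2⟩ ⟨sp F h b, hK b b.2⟩)
    exact map_add (sp F h) (a : (St y).obj F) b
  map_smul' r a := by
    refine (congrArg ψ (Subtype.ext ?_)).trans ((map_smul ψ ((X.presheaf.stalkSpecializes h).hom r)
      ⟨sp F h a, hK a a.2⟩).trans ((kmod_smul ξ _ _).trans ?_))
    · exact sp_smul F h r a
    · exact (Algebra.smul_def r (show Kap h from ψ ⟨sp F h a, hK a a.2⟩)).symm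

theorem img_eq_map {y ξ : X} (h : ξ ⤳ y) {S : Submodule (X.presheaf.stalk ξ) ((St ξ).obj F)}
    (ψ : ↥S →ₗ[X.presheaf.stalk ξ] kmod ξ) {K L : Submodule (X.presheaf.stalk y) ((St y).obj F)}
    (hK : ∀ m ∈ K, sp F h m ∈ S) (hL : L ≤ K) : img h ψ L = (L.submoduleOf K).map (evK h ψ K hK) := by
  ext z
  constructor
  · rintro ⟨m, hm, w, hw, rfl⟩
    exact ⟨⟨m, hL hm⟩, hm, congrArg ψ (Subtype.ext hw.symm)⟩
  · rintro ⟨⟨m, hmK⟩, hm, rfl⟩
    exact ⟨m, hm, ⟨sp F h m, hK m hmK⟩, rfl, rfl⟩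

theorem dlen_img {y ξ : X} (h : ξ ⤳ y) {S : Submodule (X.presheaf.stalk ξ) ((St ξ).obj F)}
    (ψ : ↥S →ₗ[X.presheaf.stalk ξ] kmod ξ) {K K₁ L : Submodule (X.presheaf.stalk y) ((St y).obj F)}
    (hK : ∀ m ∈ K, sp F h m ∈ S) (hK₁ : ∀ m ∈ K, m ∈ K₁ ↔ sp F h m ∈ kerS ψ) (hL : L ≤ K) :
    dlen (img h ψ K) (img h ψ L) = dlen (⊤ : Submodule (X.presheaf.stalk y) ↥K)
      (L.submoduleOf K ⊔ K₁.submoduleOf K) := by
  rw [img_eq_map h ψ hK le_rfl, img_eq_map h ψ hK hL, Submodule.submoduleOf_self, dlen_map _ le_top, top_inf_eq]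
  congr 2
  ext ⟨m, hm⟩
  rw [LinearMap.mem_ker]
  refine Iff.trans ?_ (hK₁ m hm).symm
  rw [mem_kerS]
  exact ⟨fun e => ⟨hK m hm, e⟩, fun ⟨_, e⟩ => e⟩

/-- A family of submodules at the generizations of `y`. -/
abbrev Fam (δ : X → ℤ) (k : ℤ) (y : X) (F : X.Modules) : Type u :=
  ∀ ξ : Gen δ k y, Submodule (X.presheaf.stalk ξ.1) ((St ξ.1).obj F)

variable {y : X}

/-- The germs lying in the family at every generization. -/
def ker (W : Fam δ k y F) : Submodule (X.presheaf.stalk y) ((St y).obj F) where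
  carrier := {m | ∀ ξ : Gen δ k y, sp F ξ.2.2 m ∈ W ξ}
  add_mem' := fun ha hb ξ => by rw [map_add]; exact (W ξ).add_mem (ha ξ) (hb ξ)
  zero_mem' := fun ξ => by rw [map_zero]; exact (W ξ).zero_mem
  smul_mem' := fun r m hm ξ => by rw [sp_smul]; exact (W ξ).smul_mem _ (hm ξ)

theorem ker_mono {W W' : Fam δ k y F} (h : ∀ ξ, W ξ ≤ W' ξ) : ker W ≤ ker W' := fun _ hm ξ => h ξ (hm ξ)

theorem ker_top : ker (fun _ => ⊤ : Fam δ k y F) = ⊤ := eq_top_iff.2 fun _ _ _ => Submodule.mem_top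

open Classical in
/-- Replace one member of a family. -/
def put (W : Fam δ k y F) (ξ : Gen δ k y) (S : Submodule (X.presheaf.stalk ξ.1) ((St ξ.1).obj F)) : Fam δ k y F :=
  Function.update W ξ S

theorem put_self (W : Fam δ k y F) (ξ : Gen δ k y) (S : Submodule (X.presheaf.stalk ξ.1) ((St ξ.1).obj F)) :
    put W ξ S ξ = S := by classical exact Function.update_self ξ S W

theorem put_ne (W : Fam δ k y F) {ξ η : Gen δ k y} (h : η ≠ ξ) (S : Submodule (X.presheaf.stalk ξ.1) ((St ξ.1).obj F)) :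
    put W ξ S η = W η := by classical exact Function.update_of_ne h S W

theorem put_put (W : Fam δ k y F) (ξ : Gen δ k y) (S S' : Submodule (X.presheaf.stalk ξ.1) ((St ξ.1).obj F)) :
    put (put W ξ S) ξ S' = put W ξ S' := by
  simp only [put, Function.update_idem]

theorem put_eq_self (W : Fam δ k y F) (ξ : Gen δ k y) : put W ξ (W ξ) = W := by
  classical exact Function.update_eq_self ξ W

theorem put_comm (W : Fam δ k y F) {ξ η : Gen δ k y} (h : η ≠ ξ)
    (S : Submodule (X.presheaf.stalk ξ.1) ((St ξ.1).obj F)) (S' : Submodule (X.presheaf.stalk η.1) ((St η.1).obj F)) :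
    put (put W η S') ξ S = put (put W ξ S) η S' := by
  classical exact Function.update_comm h S' S W

/-- The index of the chosen functional at one generization. -/
def jump (W : Fam δ k y F) (ξ : Gen δ k y) : ℤ := idx (img ξ.2.2 (phi (W ξ)) (ker W))

/-- One step down at one generization. -/
def step (W : Fam δ k y F) (ξ : Gen δ k y) : Fam δ k y F := put W ξ (kerS (phi (W ξ)))

/-- The degree, with fuel. -/
def degAux : ℕ → Fam δ k y F → ℤ
  | 0, W => ((Module.length (X.presheaf.stalk y) (ker W)).toNat : ℤ)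
  | n + 1, W => by
    classical
    exact if h : ∃ ξ, W ξ ≠ ⊥ then jump W h.choose + degAux n (step W h.choose)
      else ((Module.length (X.presheaf.stalk y) (ker W)).toNat : ℤ)

/-- The total length of a family. -/
def size (W : Fam δ k y F) : ℕ := ∑ᶠ ξ, (Module.length (X.presheaf.stalk ξ.1) (W ξ)).toNat

/-- The degree of a family. -/
def deg (W : Fam δ k y F) : ℤ := degAux (size W) W

section Coh

variable [IsLocallyNoetherian X] (hX : Cyc.IsSetup X δ) (hF : P (fun x => δ x ≤ k + 1) F)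

include hX hF

theorem length_ne_top {ξ : X} (hξ : δ ξ = k + 1) (S : Submodule (X.presheaf.stalk ξ) ((St ξ).obj F)) :
    Module.length (X.presheaf.stalk ξ) S ≠ ⊤ :=
  ne_top_of_le_ne_top ((CycK0Lib.levels_delta (k := k + 1) hX.2.2).length_ne_top hF (by omega))
    (Module.length_le_of_injective S.subtype S.injective_subtype)

theorem length_kerS {ξ : X} {S : Submodule (X.presheaf.stalk ξ) ((St ξ).obj F)}
    {ψ : ↥S →ₗ[X.presheaf.stalk ξ] kmod ξ} (hψ : Function.Surjective ψ) (hξ : δ ξ = k + 1) :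
    (Module.length (X.presheaf.stalk ξ) S).toNat = (Module.length (X.presheaf.stalk ξ) (kerS ψ)).toNat + 1 := by
  have e := Module.length_eq_add_of_exact (LinearMap.ker ψ).subtype ψ (Submodule.injective_subtype _) hψ
    (LinearMap.exact_subtype_ker_map ψ)
  have e1 : Module.length (X.presheaf.stalk ξ) (kmod ξ) = 1 := by
    rw [Module.length_eq_of_surjective (R := IsLocalRing.ResidueField (X.presheaf.stalk ξ)) (S := X.presheaf.stalk ξ)
      IsLocalRing.residue_surjective]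
    exact Module.length_eq_one_iff.2 inferInstance
  have e2 : Module.length (X.presheaf.stalk ξ) (LinearMap.ker ψ) = Module.length (X.presheaf.stalk ξ) (kerS ψ) :=
    (Submodule.equivMapOfInjective S.subtype S.injective_subtype (LinearMap.ker ψ)).length_eq
  rw [e, e1, e2, ENat.toNat_add (length_ne_top hX hF hξ _) ENat.one_ne_top, ENat.toNat_one]

theorem size_put (W : Fam δ k y F) (ξ : Gen δ k y) {ψ : ↥(W ξ) →ₗ[X.presheaf.stalk ξ.1] kmod ξ.1}
    (hψ : Function.Surjective ψ) : size W = size (put W ξ (kerS ψ)) + 1 := by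
  classical
  obtain ⟨T, hT⟩ := exists_finset_gen hX hF y
  have hsupp : ∀ W' : Fam δ k y F,
      (Function.support fun η => (Module.length (X.presheaf.stalk η.1) (W' η)).toNat) ⊆ ↑(insert ξ T) := by
    intro W' η hη
    by_contra h
    simp only [Finset.coe_insert, Set.mem_insert_iff, Finset.mem_coe, not_or] at h
    haveI := hT η h.2
    exact hη (by simp [Module.length_eq_zero])
  rw [size, size, finsum_eq_sum_of_support_subset _ (hsupp W), finsum_eq_sum_of_support_subset _ (hsupp _),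
    ← Finset.add_sum_erase _ _ (Finset.mem_insert_self ξ T), ← Finset.add_sum_erase _ _ (Finset.mem_insert_self ξ T),
    put_self, length_kerS hX hF hψ ξ.2.1]
  have hc : ∀ η ∈ (insert ξ T).erase ξ, (Module.length (X.presheaf.stalk η.1) (put W ξ (kerS ψ) η)).toNat =
      (Module.length (X.presheaf.stalk η.1) (W η)).toNat := fun η hη => by
    rw [put_ne W (Finset.ne_of_mem_erase hη)]
  rw [Finset.sum_congr rfl hc]
  ring

theorem size_step {W : Fam δ k y F} {ξ : Gen δ k y} (h : W ξ ≠ ⊥) : size W = size (step W ξ) + 1 :=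
  size_put hX hF W ξ (phi_surjective hF h)

theorem deg_of_bot {W : Fam δ k y F} (h : ∀ ξ, W ξ = ⊥) :
    deg W = ((Module.length (X.presheaf.stalk y) (ker W)).toNat : ℤ) := by
  classical
  have hn : ¬ ∃ ξ, W ξ ≠ ⊥ := fun ⟨ξ, hξ⟩ => hξ (h ξ)
  unfold deg
  cases size W with
  | zero => rfl
  | succ n => rw [degAux, dif_neg hn]

variable (hy : δ y = k)
include hy

theorem lat_img (W : Fam δ k y F) (ξ : Gen δ k y) {ψ : ↥(W ξ) →ₗ[X.presheaf.stalk ξ.1] kmod ξ.1}
    (hψ : Function.Surjective ψ) : Lat (img ξ.2.2 ψ (ker W)) := by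
  classical
  haveI : Coh.IsQCoh F := hF.1.1
  haveI := finite_stalk hF.1 y
  refine ⟨?_, fun hbot => ?_⟩
  · rw [img_eq_map (K := ker W) ξ.2.2 ψ (fun m hm => hm ξ) le_rfl]
    haveI : Module.Finite (X.presheaf.stalk y) (ker W) := Module.Finite.iff_fg.2 (IsNoetherian.noetherian _)
    exact (IsNoetherian.noetherian _).map _
  · obtain ⟨w, hw⟩ := hψ (show kmod ξ.1 from (1 : X.residueField ξ.1))
    obtain ⟨m, t, ht, htm⟩ := exists_sp_eq (F := F) ξ.2.2 (w : (St ξ.1).obj F)
    obtain ⟨T, hT⟩ := exists_finset_gen hX hF y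
    obtain ⟨s, hs, hs'⟩ := exists_separator hX T ξ
    have hn : ∀ η : Gen δ k y, ∃ n : ℕ, η ≠ ξ → η ∈ T → ∀ a : (St η.1).obj F,
        ((X.presheaf.stalkSpecializes η.2.2).hom s) ^ n • a = 0 := fun η => by
      by_cases h : η ≠ ξ ∧ η ∈ T
      · obtain ⟨n, hn⟩ := CycK0Lib.exists_pow_smul_eq_zero (M := (St η.1).obj F)
          ((CycK0Lib.levels_delta (k := k + 1) hX.2.2).length_ne_top hF (x := η.1) (by have := η.2.1; omega))
          ((IsLocalRing.residue_eq_zero_iff _).1 (hs' η h.2 h.1))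
        exact ⟨n, fun _ _ => hn⟩
      · exact ⟨0, fun h1 h2 => absurd ⟨h1, h2⟩ h⟩
    choose n hn using hn
    let N := ∑ η ∈ T, n η
    have hmem : s ^ N • m ∈ ker W := fun η => by
      rw [sp_smul, map_pow]
      by_cases hη : η = ξ
      · subst hη
        rw [htm]
        exact (W η).smul_mem _ ((W η).smul_mem _ w.2)
      by_cases hηT : η ∈ T
      · have hle : n η ≤ N := Finset.single_le_sum (fun i _ => Nat.zero_le (n i)) hηT
        rw [← Nat.sub_add_cancel hle, pow_add,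
          mul_smul, hn η hη hηT, smul_zero]
        exact (W η).zero_mem
      · haveI := hT η hηT
        rw [Subsingleton.elim (sp F η.2.2 m) 0, smul_zero]
        exact (W η).zero_mem
    have hz : (show Kap ξ.2.2 from ψ ⟨sp F ξ.2.2 (s ^ N • m), hmem ξ⟩) ∈ img ξ.2.2 ψ (ker W) :=
      ⟨_, hmem, _, rfl, rfl⟩
    rw [hbot, Submodule.mem_bot] at hz
    have e1 : (⟨sp F ξ.2.2 (s ^ N • m), hmem ξ⟩ : ↥(W ξ)) = (X.presheaf.stalkSpecializes ξ.2.2).hom (s ^ N * t) • w :=
      Subtype.ext (by show sp F ξ.2.2 _ = _; rw [sp_smul, htm, map_mul, mul_smul]; rfl)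
    rw [e1, map_smul, hw] at hz
    have hz' : Cyc.specMap y ξ.1 ξ.2.2 (s ^ N * t) = 0 :=
      (mul_one _).symm.trans ((kmod_smul ξ.1 _ _).symm.trans hz)
    rw [map_mul, map_pow] at hz'
    exact mul_ne_zero (pow_ne_zero N hs) ht hz'

/-- Two functionals with different kernels give the same total index in either order. -/
theorem diamond {W W₁ W₂ : Fam δ k y F} (ξ η : Gen δ k y) {ψ : ↥(W ξ) →ₗ[X.presheaf.stalk ξ.1] kmod ξ.1}
    {ψ' : ↥(W η) →ₗ[X.presheaf.stalk η.1] kmod η.1} (hψ : Function.Surjective ψ) (hψ' : Function.Surjective ψ')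
    (h₁ : W₁ = put W ξ (kerS ψ)) (h₂ : W₂ = put W η (kerS ψ'))
    (hl₁ : Lat (img η.2.2 ψ' (ker W₁))) (hl₂ : Lat (img ξ.2.2 ψ (ker W₂))) :
    idx (img ξ.2.2 ψ (ker W)) + idx (img η.2.2 ψ' (ker W₁)) =
      idx (img η.2.2 ψ' (ker W)) + idx (img ξ.2.2 ψ (ker W₂)) := by
  classical
  subst h₁ h₂
  have hmem : ∀ (ξ : Gen δ k y) (ψ : ↥(W ξ) →ₗ[X.presheaf.stalk ξ.1] kmod ξ.1), ∀ m ∈ ker W,
      (m ∈ ker (put W ξ (kerS ψ)) ↔ sp F ξ.2.2 m ∈ kerS ψ) := by
    intro ξ ψ m hm
    refine ⟨fun h => by have := h ξ; rwa [put_self] at this, fun h η => ?_⟩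
    by_cases e : η = ξ
    · subst e; rw [put_self]; exact h
    · rw [put_ne W e]; exact hm η
  have hle : ∀ (ξ : Gen δ k y) (ψ : ↥(W ξ) →ₗ[X.presheaf.stalk ξ.1] kmod ξ.1),
      ker (put W ξ (kerS ψ)) ≤ ker W := fun ξ ψ => ker_mono fun η => by
    by_cases e : η = ξ
    · subst e; rw [put_self]; exact kerS_le ψ
    · rw [put_ne W e]
  have e1 := idx_sub (lineHyp hX hy ξ) (lat_img hX hF hy W ξ hψ) hl₂ (by
    rintro _ ⟨m, hm, w, hw, rfl⟩; exact ⟨m, hle η ψ' hm, w, hw, rfl⟩)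
  have e2 := idx_sub (lineHyp hX hy η) (lat_img hX hF hy W η hψ') hl₁ (by
    rintro _ ⟨m, hm, w, hw, rfl⟩; exact ⟨m, hle ξ ψ hm, w, hw, rfl⟩)
  have e3 : dz (img ξ.2.2 ψ (ker W)) (img ξ.2.2 ψ (ker (put W η (kerS ψ')))) =
      dz (img η.2.2 ψ' (ker W)) (img η.2.2 ψ' (ker (put W ξ (kerS ψ)))) := by
    rw [dz, dz, dlen_img (K := ker W) ξ.2.2 ψ (fun m hm => hm ξ) (hmem ξ ψ) (hle η ψ'),
      dlen_img (K := ker W) η.2.2 ψ' (fun m hm => hm η) (hmem η ψ') (hle ξ ψ), sup_comm]
  linarith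

/-- The degree does not depend on the order of the generizations. -/
theorem deg_step : ∀ (n : ℕ) (W : Fam δ k y F), size W = n → ∀ ξ, W ξ ≠ ⊥ → deg W = jump W ξ + deg (step W ξ) := by
  classical
  intro n
  induction n using Nat.strong_induction_on with
  | _ n ih =>
    intro W hn ξ hξ
    have h : ∃ η, W η ≠ ⊥ := ⟨ξ, hξ⟩
    let η := h.choose
    have hη : W η ≠ ⊥ := h.choose_spec
    have e0 : deg W = jump W η + deg (step W η) := by
      rw [deg, size_step hX hF hη, degAux, dif_pos h]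
      rfl
    by_cases e : η = ξ
    · rw [← e]; exact e0
    have hs1 := size_step hX hF hη
    have hs2 := size_step hX hF hξ
    have hξ' : step W η ξ = W ξ := put_ne W (Ne.symm e) _
    have hη' : step W ξ η = W η := put_ne W e _
    rw [e0, ih _ (by omega) (step W η) rfl ξ (by rwa [hξ']),
      ih _ (by omega) (step W ξ) rfl η (by rwa [hη'])]
    have hcomm : step (step W η) ξ = step (step W ξ) η := by
      have a1 : step (step W η) ξ = put (step W η) ξ (kerS (phi (W ξ))) := by rw [← hξ']; rfl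
      have a2 : step (step W ξ) η = put (step W ξ) η (kerS (phi (W η))) := by rw [← hη']; rfl
      rw [a1, a2]
      exact put_comm W e _ _
    have key := diamond hX hF hy (W := W) ξ η (phi_surjective hF hξ) (phi_surjective hF hη) rfl rfl ?_ ?_
    rotate_left
    · have := lat_img hX hF hy (step W ξ) η (phi_surjective hF (by rwa [hη']))
      rwa [hη'] at this
    · have := lat_img hX hF hy (step W η) ξ (phi_surjective hF (by rwa [hξ']))
      rwa [hξ'] at this
    have j1 : jump (step W η) ξ = idx (img ξ.2.2 (phi (W ξ)) (ker (step W η))) := by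
      show idx (img ξ.2.2 (phi (step W η ξ)) (ker (step W η))) = _
      rw [hξ']
    have j2 : jump (step W ξ) η = idx (img η.2.2 (phi (W η)) (ker (step W ξ))) := by
      show idx (img η.2.2 (phi (step W ξ η)) (ker (step W ξ))) = _
      rw [hη']
    rw [hcomm, j1, j2]
    have key' : jump W ξ + idx (img η.2.2 (phi (W η)) (ker (step W ξ))) =
        jump W η + idx (img ξ.2.2 (phi (W ξ)) (ker (step W η))) := key
    linarith

end Coh

end CycDegLib

end
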