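import Mathlib

/-!
# Indices of lattices in the residue field of a one-dimensional prime
-/

set_option autoImplicit false
set_option linter.style.haveILetI false
set_option linter.unusedSectionVars false

universe u v w

noncomputable section

namespace CycDegLib

variable {R : Type u} [CommRing R]

section Quot

variable {M : Type v} [AddCommGroup M] [Module R M]

/-- The length of a quotient of submodules. -/
abbrev dlen (I J : Submodule R M) : ℕ∞ := Module.length R (↥I ⧸ J.submoduleOf I)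

/-- The length of a quotient of submodules, as an integer. -/
def dz (I J : Submodule R M) : ℤ := ((dlen I J).toNat : ℤ)

theorem dlen_add {J I Z : Submodule R M} (hJI : J ≤ I) (hIZ : I ≤ Z) : dlen Z J = dlen I J + dlen Z I := by
  let f : (↥I ⧸ J.submoduleOf I) →ₗ[R] ↥Z ⧸ J.submoduleOf Z :=
    Submodule.mapQ _ _ (Submodule.inclusion hIZ) fun x hx => hx
  let g : (↥Z ⧸ J.submoduleOf Z) →ₗ[R] ↥Z ⧸ I.submoduleOf Z :=
    Submodule.factor fun x hx => hJI hx
  refine Module.length_eq_add_of_exact f g ?_ (Submodule.factor_surjective _) ?_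
  · rw [← LinearMap.ker_eq_bot, LinearMap.ker_eq_bot']
    intro z hz
    obtain ⟨z, rfl⟩ := Submodule.mkQ_surjective _ z
    exact (Submodule.Quotient.mk_eq_zero _).2 ((Submodule.Quotient.mk_eq_zero (J.submoduleOf Z)).1 hz :)
  · intro z
    obtain ⟨z, rfl⟩ := Submodule.mkQ_surjective _ z
    constructor
    · intro h
      have h' : (z : M) ∈ I := (Submodule.Quotient.mk_eq_zero (I.submoduleOf Z)).1 h
      exact ⟨Submodule.mkQ _ ⟨z, h'⟩, rfl⟩
    · rintro ⟨q, hq⟩
      obtain ⟨q, rfl⟩ := Submodule.mkQ_surjective _ q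
      rw [← hq]
      exact (Submodule.Quotient.mk_eq_zero (I.submoduleOf Z)).2 q.2

theorem dlen_self (I : Submodule R M) : dlen I I = 0 := by
  haveI : Subsingleton (↥I ⧸ I.submoduleOf I) := by
    rw [Submodule.Quotient.subsingleton_iff, Submodule.submoduleOf_self]
  exact Module.length_eq_zero

theorem dz_add {J I Z : Submodule R M} (hJI : J ≤ I) (hIZ : I ≤ Z) (h : dlen Z J ≠ ⊤) :
    dz Z J = dz I J + dz Z I := by
  rw [dlen_add hJI hIZ, Ne, ENat.add_eq_top, not_or] at h
  rw [dz, dlen_add hJI hIZ, ENat.toNat_add h.1 h.2, Nat.cast_add]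
  rfl

theorem dlen_bot (I : Submodule R M) : dlen I ⊥ = Module.length R I := by
  refine ((Submodule.quotEquivOfEqBot ((⊥ : Submodule R M).submoduleOf I) ?_)).length_eq
  rw [eq_bot_iff]
  intro x hx
  exact Submodule.mem_bot R |>.2 (Subtype.ext hx)

theorem dlen_map_injective {N : Type w} [AddCommGroup N] [Module R N] (e : M →ₗ[R] N) (he : Function.Injective e)
    (I J : Submodule R M) : dlen (I.map e) (J.map e) = dlen I J := by
  refine (Submodule.Quotient.equiv (J.submoduleOf I) ((J.map e).submoduleOf (I.map e))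
    (Submodule.equivMapOfInjective e he I) ?_).length_eq.symm
  ext ⟨x, hx⟩
  constructor
  · rintro ⟨y, hy, h⟩
    rw [← h]
    exact ⟨y.1, hy, rfl⟩
  · rintro ⟨y, hy, h⟩
    obtain ⟨z, hz, hzx⟩ := hx
    obtain rfl : y = z := he (h.trans hzx.symm)
    exact ⟨⟨y, hz⟩, hy, Subtype.ext h⟩

theorem dlen_top (J : Submodule R M) : dlen ⊤ J = Module.length R (M ⧸ J) := by
  refine (Submodule.Quotient.equiv _ _ Submodule.topEquiv ?_).length_eq
  ext x
  constructor
  · rintro ⟨y, hy, rfl⟩; exact hy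
  · intro hx; exact ⟨⟨x, trivial⟩, hx, rfl⟩

/-- The image of a pair of submodules under a linear map. -/
theorem dlen_map {N : Type w} [AddCommGroup N] [Module R N] (f : M →ₗ[R] N) {K L : Submodule R M} (hLK : L ≤ K) :
    dlen (K.map f) (L.map f) = dlen K (L ⊔ (K ⊓ LinearMap.ker f)) := by
  let g : ↥K →ₗ[R] ↥(K.map f) ⧸ (L.map f).submoduleOf (K.map f) := Submodule.mkQ _ ∘ₗ f.submoduleMap K
  have hg : Function.Surjective g := (Submodule.mkQ_surjective _).comp (f.submoduleMap_surjective K)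
  have hk : LinearMap.ker g = (L ⊔ (K ⊓ LinearMap.ker f)).submoduleOf K := by
    ext ⟨x, hx⟩
    rw [LinearMap.mem_ker]
    refine (Submodule.Quotient.mk_eq_zero _).trans ?_
    show f x ∈ L.map f ↔ x ∈ L ⊔ (K ⊓ LinearMap.ker f)
    constructor
    · rintro ⟨y, hy, hxy⟩
      exact Submodule.mem_sup.2 ⟨y, hy, x - y, ⟨K.sub_mem hx (hLK hy), by simp [hxy]⟩, by abel⟩
    · intro h
      obtain ⟨y, hy, z, hz, rfl⟩ := Submodule.mem_sup.1 h
      exact ⟨y, hy, by rw [map_add, LinearMap.mem_ker.1 hz.2, add_zero]⟩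
  exact ((Submodule.quotEquivOfEq _ _ hk.symm).trans (LinearMap.quotKerEquivOfSurjective g hg)).length_eq.symm

end Quot

variable {K : Type v} [Field K] [Algebra R K]

/-- The prime kernel of `R → K` is one-dimensional and `K` is its fraction field. -/
structure LineHyp (R : Type u) (K : Type v) [CommRing R] [Field K] [Algebra R K] : Prop where
  frac : ∀ z : K, ∃ a b : R, algebraMap R K b ≠ 0 ∧ z * algebraMap R K b = algebraMap R K a
  fin : ∀ s : R, algebraMap R K s ≠ 0 →
    Module.length R (R ⧸ RingHom.ker (algebraMap R K) ⊔ Ideal.span {s}) ≠ ⊤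

/-- A lattice: a nonzero finitely generated submodule. -/
structure Lat (I : Submodule R K) : Prop where
  fg : I.FG
  ne_bot : I ≠ ⊥

theorem lat_one : Lat (1 : Submodule R K) := by
  refine ⟨?_, fun h => ?_⟩
  · rw [Submodule.one_eq_span]
    exact Submodule.fg_span_singleton _
  · have h1 : (1 : K) ∈ (1 : Submodule R K) := Submodule.mem_one.2 ⟨1, map_one _⟩
    rw [h, Submodule.mem_bot] at h1
    exact one_ne_zero h1

theorem Lat.sup {I J : Submodule R K} (hI : Lat I) (hJ : Lat J) : Lat (I ⊔ J) :=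
  ⟨hI.fg.sup hJ.fg, fun h => hI.ne_bot (le_bot_iff.1 (h ▸ le_sup_left))⟩

theorem exists_smul_le (H : LineHyp R K) {I J : Submodule R K} (hI : I.FG) (hJ : J ≠ ⊥) :
    ∃ s : R, algebraMap R K s ≠ 0 ∧ ∀ z ∈ I, s • z ∈ J := by
  obtain ⟨j, hj, hj0⟩ := Submodule.exists_mem_ne_zero_of_ne_bot hJ
  induction I, hI using Submodule.fg_induction with
  | singleton x =>
    obtain ⟨a, b, hb, hab⟩ := H.frac (x / j)
    refine ⟨b, hb, fun z hz => ?_⟩
    obtain ⟨r, rfl⟩ := Submodule.mem_span_singleton.1 hz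
    rw [smul_comm]
    refine J.smul_mem r ?_
    have : b • x = a • j := by
      rw [Algebra.smul_def, Algebra.smul_def, ← hab]
      field_simp
    rw [this]
    exact J.smul_mem a hj
  | sup I₁ I₂ _ _ h₁ h₂ =>
    obtain ⟨s, hs, h1⟩ := h₁
    obtain ⟨t, ht, h2⟩ := h₂
    refine ⟨s * t, by rw [map_mul]; exact mul_ne_zero hs ht, fun z hz => ?_⟩
    obtain ⟨a, ha, b, hb, rfl⟩ := Submodule.mem_sup.1 hz
    rw [smul_add, mul_comm s t, mul_smul, mul_comm t s, mul_smul]
    exact J.add_mem (J.smul_mem t (h1 a ha)) (J.smul_mem s (h2 b hb))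

theorem dlen_ne_top (H : LineHyp R K) {I J : Submodule R K} (hI : I.FG) (hJ : J ≠ ⊥) : dlen I J ≠ ⊤ := by
  obtain ⟨s, hs, hle⟩ := exists_smul_le H hI hJ
  have hQ : ∀ t ∈ RingHom.ker (algebraMap R K) ⊔ Ideal.span {s}, ∀ q : ↥I ⧸ J.submoduleOf I, t • q = 0 := by
    intro t ht q
    obtain ⟨z, rfl⟩ := Submodule.mkQ_surjective _ q
    obtain ⟨p, hp, c, hc, rfl⟩ := Submodule.mem_sup.1 ht
    obtain ⟨d, rfl⟩ := Ideal.mem_span_singleton'.1 hc
    rw [← map_smul]
    refine (Submodule.Quotient.mk_eq_zero _).2 ?_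
    show (p + d * s) • (z : K) ∈ J
    rw [add_smul, Algebra.smul_def p, RingHom.mem_ker.1 hp, zero_mul, zero_add, mul_smul]
    exact J.smul_mem d (hle z z.2)
  haveI : Module.Finite R ↥I := Module.Finite.iff_fg.2 hI
  obtain ⟨n, q, hq⟩ := Module.Finite.exists_fin (R := R) (M := ↥I ⧸ J.submoduleOf I)
  let 𝔞 := RingHom.ker (algebraMap R K) ⊔ Ideal.span {s}
  let f : (Fin n → R ⧸ 𝔞) →ₗ[R] ↥I ⧸ J.submoduleOf I :=
    ∑ i, (Submodule.liftQ 𝔞 (LinearMap.toSpanSingleton R _ (q i)) fun t ht => hQ t ht _) ∘ₗ LinearMap.proj i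
  have hf : Function.Surjective f := by
    rw [← LinearMap.range_eq_top, eq_top_iff, ← hq, Submodule.span_le]
    rintro _ ⟨i, rfl⟩
    classical
    refine ⟨Pi.single i (Submodule.Quotient.mk 1), ?_⟩
    simp only [f, LinearMap.sum_apply, LinearMap.comp_apply, LinearMap.proj_apply]
    rw [Finset.sum_eq_single i (fun j _ hj => by rw [Pi.single_eq_of_ne hj, map_zero]) (by simp)]
    rw [Pi.single_eq_same]
    exact one_smul R (q i)
  refine ne_top_of_le_ne_top ?_ (Module.length_le_of_surjective f hf)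
  rw [Module.length_pi_of_fintype]
  exact (ENat.sum_lt_top.2 fun i _ => (H.fin s hs).lt_top).ne

/-- The index of a lattice against the standard one. -/
def idx (I : Submodule R K) : ℤ := dz (I ⊔ 1) 1 - dz (I ⊔ 1) I

theorem idx_eq (H : LineHyp R K) {I Z : Submodule R K} (hI : Lat I) (hZ : Z.FG) (hIZ : I ≤ Z) (h1 : 1 ≤ Z) :
    idx I = dz Z 1 - dz Z I := by
  have ha := dz_add (le_sup_right : (1 : Submodule R K) ≤ I ⊔ 1) (sup_le hIZ h1) (dlen_ne_top H hZ lat_one.ne_bot)
  have hb := dz_add (le_sup_left : I ≤ I ⊔ 1) (sup_le hIZ h1) (dlen_ne_top H hZ hI.ne_bot)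
  rw [idx, ha, hb]
  ring

theorem idx_sub (H : LineHyp R K) {I J : Submodule R K} (hI : Lat I) (hJ : Lat J) (hJI : J ≤ I) :
    idx I - idx J = dz I J := by
  rw [idx_eq H hJ (hI.sup lat_one).fg (hJI.trans le_sup_left) le_sup_right, idx,
    dz_add hJI le_sup_left (dlen_ne_top H (hI.sup lat_one).fg hJ.ne_bot)]
  ring

theorem idx_one : idx (1 : Submodule R K) = 0 := by
  rw [idx, sub_self]

/-- Multiplication by an element of the field. -/
abbrev mulBy (c : K) : K →ₗ[R] K := LinearMap.mulLeft R c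

theorem mulBy_injective {c : K} (hc : c ≠ 0) : Function.Injective (mulBy (R := R) c) :=
  fun _ _ h => mul_left_cancel₀ hc h

theorem Lat.map {I : Submodule R K} (hI : Lat I) {c : K} (hc : c ≠ 0) : Lat (I.map (mulBy c)) :=
  ⟨hI.fg.map _, fun h => hI.ne_bot (Submodule.map_injective_of_injective (mulBy_injective hc) (h.trans (Submodule.map_bot _).symm))⟩

/-- The order of an element of `R`. -/
def ord (a : R) : ℤ := ((Module.length R (R ⧸ RingHom.ker (algebraMap R K) ⊔ Ideal.span {a})).toNat : ℤ)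

theorem map_le_self (a : R) (I : Submodule R K) : I.map (mulBy (algebraMap R K a)) ≤ I := by
  rintro _ ⟨z, hz, rfl⟩
  show algebraMap R K a * z ∈ I
  rw [← Algebra.smul_def]
  exact I.smul_mem a hz

theorem dlen_one_map (a : R) :
    dlen (1 : Submodule R K) ((1 : Submodule R K).map (mulBy (algebraMap R K a))) =
      Module.length R (R ⧸ RingHom.ker (algebraMap R K) ⊔ Ideal.span {a}) := by
  have h1 : (1 : Submodule R K) = (⊤ : Submodule R R).map (Algebra.linearMap R K) := by
    rw [Submodule.map_top, Submodule.one_eq_range]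
  have h2 : (1 : Submodule R K).map (mulBy (algebraMap R K a)) =
      Submodule.map (Algebra.linearMap R K) (Ideal.span {a}) := by
    rw [h1, ← Submodule.map_comp]
    ext z
    constructor
    · rintro ⟨r, -, rfl⟩
      exact ⟨r * a, Ideal.mem_span_singleton'.2 ⟨r, rfl⟩, by
        show algebraMap R K (r * a) = algebraMap R K a * algebraMap R K r
        rw [map_mul, mul_comm]⟩
    · rintro ⟨x, hx, rfl⟩
      obtain ⟨r, rfl⟩ := Ideal.mem_span_singleton'.1 hx
      exact ⟨r, trivial, by
        show algebraMap R K a * algebraMap R K r = algebraMap R K (r * a)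
        rw [map_mul, mul_comm]⟩
  rw [h2, h1, dlen_map _ le_top, top_inf_eq, sup_comm]
  exact dlen_top _

theorem idx_smul_of_mem (H : LineHyp R K) {I : Submodule R K} (hI : Lat I) {a : R} (ha : algebraMap R K a ≠ 0) :
    idx (I.map (mulBy (algebraMap R K a))) = idx I - ord (K := K) a := by
  let m := mulBy (R := R) (algebraMap R K a)
  have hm := mulBy_injective (R := R) ha
  let Z := I ⊔ 1
  have hZ : Lat Z := hI.sup lat_one
  have key : ∀ J : Submodule R K, Lat J → J ≤ Z → dz J (J.map m) = dz Z (Z.map m) := fun J hJ hJZ => by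
    have e1 := dz_add (map_le_self a J) hJZ (dlen_ne_top H hZ.fg (hJ.map ha).ne_bot)
    have e2 := dz_add (Submodule.map_mono hJZ : J.map m ≤ Z.map m) (map_le_self a Z)
      (dlen_ne_top H hZ.fg (hJ.map ha).ne_bot)
    have e3 : dz (Z.map m) (J.map m) = dz Z J := by rw [dz, dz, dlen_map_injective m hm]
    rw [e1, e3] at e2
    linarith
  have h1 : dz I (I.map m) = ord (K := K) a := by
    rw [key I hI le_sup_left, ← key 1 lat_one le_sup_right, dz, dlen_one_map]
    rfl
  have := idx_sub H hI (hI.map ha) (map_le_self a I)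
  rw [h1] at this
  show idx (I.map m) = _
  linarith

/-- The index of a rescaled lattice. -/
theorem idx_smul (H : LineHyp R K) {I : Submodule R K} (hI : Lat I) {a b : R} (ha : algebraMap R K a ≠ 0)
    (hb : algebraMap R K b ≠ 0) {c : K} (hc : c * algebraMap R K b = algebraMap R K a) :
    idx (I.map (mulBy c)) = idx I - (ord (K := K) a - ord (K := K) b) := by
  have hc0 : c ≠ 0 := fun h => ha (by rw [← hc, h, zero_mul])
  have e : (I.map (mulBy c)).map (mulBy (algebraMap R K b)) = I.map (mulBy (algebraMap R K a)) := by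
    rw [← Submodule.map_comp, ← hc]
    congr 1
    exact LinearMap.ext fun z => by
      show algebraMap R K b * (c * z) = c * algebraMap R K b * z
      ring
  have h1 := idx_smul_of_mem H (hI.map hc0) hb
  rw [e, idx_smul_of_mem H hI ha] at h1
  linarith

end CycDegLib

end
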