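import Groth.Agent.CycDegLib.Class

/-!
# The two homology modules of a periodic complex have the same class
-/

set_option autoImplicit false
set_option linter.style.haveILetI false
set_option linter.unusedSectionVars false

universe u v

open CategoryTheory CategoryTheory.Limits AlgebraicGeometry TopologicalSpace Opposite

noncomputable section

namespace CycDegLib

open CycK0Lib (P AddOn)

variable {X : Scheme.{u}} [IsLocallyNoetherian X] {D : X → Prop} {A : Type v} [AddCommGroup A] {φ : X.Modules → A}

theorem addOn_exact_epi (h : AddOn D φ) (S : ShortComplex X.Modules) (hS : S.Exact) [Epi S.g]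
    (h₁ : P D S.X₁) (h₂ : P D S.X₂) (h₃ : P D S.X₃) :
    φ S.X₂ + φ (kernel S.f) = φ S.X₁ + φ S.X₃ := by
  haveI : Coh.IsQCoh S.X₂ := h₂.coh.1
  haveI : Epi (kernel.lift S.g S.f S.zero) := (ShortComplex.exact_iff_epi_kernel_lift S).1 hS
  have hK : P D (kernel S.g) := h₂.kernel S.g h₃.coh.1
  have hL : P D (kernel (kernel.lift S.g S.f S.zero)) := h₁.kernel _ hK.coh.1
  have e1 : φ S.X₂ = φ (kernel S.g) + φ S.X₃ :=
    h.add (ShortComplex.mk (kernel.ι S.g) S.g (kernel.condition _))
      { exact := ShortComplex.exact_of_f_is_kernel _ (kernelIsKernel _)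
        mono_f := inferInstanceAs (Mono (kernel.ι S.g))
        epi_g := inferInstanceAs (Epi S.g) } hK h₂ h₃
  have e2 : φ S.X₁ = φ (kernel (kernel.lift S.g S.f S.zero)) + φ (kernel S.g) :=
    h.add (ShortComplex.mk (kernel.ι (kernel.lift S.g S.f S.zero)) (kernel.lift S.g S.f S.zero) (kernel.condition _))
      { exact := ShortComplex.exact_of_f_is_kernel _ (kernelIsKernel _)
        mono_f := inferInstanceAs (Mono (kernel.ι (kernel.lift S.g S.f S.zero)))
        epi_g := inferInstanceAs (Epi (kernel.lift S.g S.f S.zero)) } hL h₁ hK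
  have e3 : φ (kernel (kernel.lift S.g S.f S.zero)) = φ (kernel S.f) :=
    h.iso ((kernelCompMono (kernel.lift S.g S.f S.zero) (kernel.ι S.g)).symm ≪≫
      kernelIsoOfEq (kernel.lift_ι _ _ _)) hL
  rw [e1, e2, e3]
  abel

theorem add_homology (h : AddOn D φ) {F : X.Modules} (f g : F ⟶ F) (hfg : f ≫ g = 0) (hF : P D F) :
    φ (kernel g) + φ (kernel f) = φ F + φ (ShortComplex.mk f g hfg).homology := by
  let S := ShortComplex.mk f g hfg
  haveI : Coh.IsQCoh F := hF.coh.1
  have hc : P D S.cycles := (hF.kernel g hF.coh.1).of_iso S.cyclesIsoKernel.symm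
  have hH : P D S.homology :=
    (hc.cokernel (D := D) S.toCycles hF.coh.1).of_iso
      (IsColimit.coconePointUniqueUpToIso (cokernelIsCokernel S.toCycles) S.homologyIsCokernel)
  have hex : (ShortComplex.mk S.toCycles S.homologyπ S.toCycles_comp_homologyπ).Exact :=
    ShortComplex.exact_of_g_is_cokernel _ S.homologyIsCokernel
  have e := addOn_exact_epi h (ShortComplex.mk S.toCycles S.homologyπ S.toCycles_comp_homologyπ) hex hF hc hH
  have e1 : φ S.cycles = φ (kernel g) := h.iso S.cyclesIsoKernel hc
  have e2 : φ (kernel S.toCycles) = φ (kernel f) :=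
    h.iso ((kernelCompMono S.toCycles S.iCycles).symm ≪≫ kernelIsoOfEq S.toCycles_i)
      (hF.kernel _ hc.coh.1)
  rw [← e1, ← e2]
  exact e

theorem homology_eq (h : AddOn D φ) {F : X.Modules} (f g : F ⟶ F) (hfg : f ≫ g = 0) (hgf : g ≫ f = 0) (hF : P D F) :
    φ (ShortComplex.mk f g hfg).homology = φ (ShortComplex.mk g f hgf).homology := by
  have e1 := add_homology h f g hfg hF
  rw [add_comm, add_homology h g f hgf hF] at e1
  exact (add_left_cancel e1).symm

theorem P_homology {F : X.Modules} (f g : F ⟶ F) (hfg : f ≫ g = 0) (hF : P D F) {D' : X → Prop}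
    (hD : ∀ x : X, Nontrivial ((ShortComplex.mk f g hfg).homology.presheaf.stalk x) → D' x) :
    P D' (ShortComplex.mk f g hfg).homology := by
  let S := ShortComplex.mk f g hfg
  haveI : Coh.IsQCoh F := hF.coh.1
  have hc : P D S.cycles := (hF.kernel g hF.coh.1).of_iso S.cyclesIsoKernel.symm
  have hH : P D S.homology :=
    (hc.cokernel (D := D) S.toCycles hF.coh.1).of_iso
      (IsColimit.coconePointUniqueUpToIso (cokernelIsCokernel S.toCycles) S.homologyIsCokernel)
  exact P.mk hH.coh fun x hx => hD x (CycK0Lib.nontrivial_iff_mem.2 hx)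

end CycDegLib

end
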