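import Groth.Agent.CycDegLib.Lattice
import Groth.Agent.CycK0Lib.Cycles
import Groth.Agent.CycC1Lib.Sec
import Groth.Agent.CycDivLib.Ord
import Groth.Agent.FlatLib.QStalk
import Groth.Agent.DepthLib.RegAB
import Groth.Agent.CommAlgDim.HilbertSamuel

/-!
# Stalks of coherent modules along immediate specializations
-/

set_option autoImplicit false
set_option linter.style.haveILetI false
set_option linter.unusedSectionVars false

universe u

open CategoryTheory CategoryTheory.Limits AlgebraicGeometry TopologicalSpace Opposite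
open IsLocalRing (maximalIdeal)

noncomputable section

namespace CycDegLib

open DevissLib (St)
open CycK0Lib (P)

variable {X : Scheme.{u}}

/-- The residue field of a generization, over the local ring of the specialization. -/
def Kap {y ξ : X} (_h : ξ ⤳ y) : Type u := X.residueField ξ

instance {y ξ : X} (h : ξ ⤳ y) : Field (Kap h) := inferInstanceAs (Field (X.residueField ξ))

instance {y ξ : X} (h : ξ ⤳ y) : Algebra (X.presheaf.stalk y) (Kap h) :=
  RingHom.toAlgebra (show X.presheaf.stalk y →+* Kap h from Cyc.specMap y ξ h)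

theorem algebraMap_kap {y ξ : X} (h : ξ ⤳ y) (r : X.presheaf.stalk y) :
    algebraMap (X.presheaf.stalk y) (Kap h) r = Cyc.specMap y ξ h r := rfl

/-- The map on stalks to a generization. -/
def sp (F : X.Modules) {y ξ : X} (h : ξ ⤳ y) : (St y).obj F →+ (St ξ).obj F :=
  (F.presheaf.stalkSpecializes h).hom

theorem sp_smul (F : X.Modules) {y ξ : X} (h : ξ ⤳ y) (r : X.presheaf.stalk y) (m : (St y).obj F) :
    sp F h (r • m) = (X.presheaf.stalkSpecializes h).hom r • sp F h m :=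
  CycC1Lib.stalkSpecializes_smul F h r m

theorem sp_map {F G : X.Modules} (f : F ⟶ G) {y ξ : X} (h : ξ ⤳ y) (m : (St y).obj F) :
    sp G h (((St y).map f).hom m) = ((St ξ).map f).hom (sp F h m) := by
  obtain ⟨U, hy, s, rfl⟩ := F.presheaf.exists_germ_eq (x := y) m
  refine (congrArg (sp G h) (DerSch.stalkFunctor_map_germ y f U hy s)).trans ?_
  refine (TopCat.Presheaf.germ_stalkSpecializes_apply G.presheaf hy h _).trans ?_
  refine Eq.trans ?_ (congrArg _ (TopCat.Presheaf.germ_stalkSpecializes_apply F.presheaf hy h s)).symm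
  exact (DerSch.stalkFunctor_map_germ ξ f U _ s).symm

section QCoh

variable {F : X.Modules} [Coh.IsQCoh F] {y ξ : X} (h : ξ ⤳ y)

theorem exists_sp_eq (v : (St ξ).obj F) : ∃ (m : (St y).obj F) (t : X.presheaf.stalk y),
    Cyc.specMap y ξ h t ≠ 0 ∧ sp F h m = (X.presheaf.stalkSpecializes h).hom t • v := by
  obtain ⟨U, hU, hy, -⟩ := exists_isAffineOpen_mem_and_subset (X := X) (x := y) (U := ⊤) trivial
  have hξ : ξ ∈ U := h.mem_open U.isOpen hy
  letI := Module.compHom (F.presheaf.stalk ξ) (X.presheaf.germ U ξ hξ).hom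
  haveI := FlatLib.isLocalizedModule_germLin F hU hξ
  obtain ⟨⟨a, t⟩, ht⟩ := IsLocalizedModule.surj (hU.primeIdealOf ⟨ξ, hξ⟩).asIdeal.primeCompl (FlatLib.germLin F hξ) v
  refine ⟨F.presheaf.germ U y hy a, X.presheaf.germ U y hy t, ?_, ?_⟩
  · intro h0
    refine t.2 ?_
    have h1 : X.residue ξ (X.presheaf.germ U ξ hξ t) = 0 := by
      rw [← TopCat.Presheaf.germ_stalkSpecializes_apply X.presheaf hy h]
      exact h0
    letI : Algebra Γ(X, U) (X.presheaf.stalk ξ) := (X.presheaf.germ U ξ hξ).hom.toAlgebra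
    haveI : IsLocalization.AtPrime (X.presheaf.stalk ξ) (hU.primeIdealOf ⟨ξ, hξ⟩).asIdeal :=
      hU.isLocalization_stalk ⟨ξ, hξ⟩
    exact (IsLocalization.AtPrime.to_map_mem_maximal_iff (X.presheaf.stalk ξ) _ (t : Γ(X, U))).1
      ((IsLocalRing.residue_eq_zero_iff _).1 h1)
  · refine (TopCat.Presheaf.germ_stalkSpecializes_apply F.presheaf hy h a).trans ?_
    rw [TopCat.Presheaf.germ_stalkSpecializes_apply X.presheaf hy h]
    exact ht.symm

theorem exists_smul_eq_zero {m : (St y).obj F} (hm : sp F h m = 0) :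
    ∃ t : X.presheaf.stalk y, Cyc.specMap y ξ h t ≠ 0 ∧ t • m = 0 := by
  obtain ⟨U, hy, a, rfl⟩ := F.presheaf.exists_germ_eq (x := y) m
  obtain ⟨V, hV, hyV, hVU⟩ := exists_isAffineOpen_mem_and_subset (X := X) (x := y) (U := U) hy
  rw [← TopCat.Presheaf.germ_res_apply F.presheaf (homOfLE (show V ≤ U from hVU)) y hyV a] at hm ⊢
  generalize F.presheaf.map (homOfLE (show V ≤ U from hVU)).op a = b at hm ⊢
  have hξ : ξ ∈ V := h.mem_open V.isOpen hyV
  letI := Module.compHom (F.presheaf.stalk ξ) (X.presheaf.germ V ξ hξ).hom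
  haveI := FlatLib.isLocalizedModule_germLin F hV hξ
  have hb : FlatLib.germLin F hξ b = 0 := (TopCat.Presheaf.germ_stalkSpecializes_apply F.presheaf hyV h b).symm.trans hm
  obtain ⟨t, ht⟩ := (IsLocalizedModule.eq_zero_iff (hV.primeIdealOf ⟨ξ, hξ⟩).asIdeal.primeCompl (FlatLib.germLin F hξ)).1 hb
  refine ⟨X.presheaf.germ V y hyV t, ?_, ?_⟩
  · intro h0
    refine t.2 ?_
    have h1 : X.residue ξ (X.presheaf.germ V ξ hξ t) = 0 := by
      rw [← TopCat.Presheaf.germ_stalkSpecializes_apply X.presheaf hyV h]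
      exact h0
    letI : Algebra Γ(X, V) (X.presheaf.stalk ξ) := (X.presheaf.germ V ξ hξ).hom.toAlgebra
    haveI : IsLocalization.AtPrime (X.presheaf.stalk ξ) (hV.primeIdealOf ⟨ξ, hξ⟩).asIdeal :=
      hV.isLocalization_stalk ⟨ξ, hξ⟩
    exact (IsLocalization.AtPrime.to_map_mem_maximal_iff (X.presheaf.stalk ξ) _ (t : Γ(X, V))).1
      ((IsLocalRing.residue_eq_zero_iff _).1 h1)
  · refine (AmpleLib.germ_smul F (t : Γ(X, V)) b hyV).symm.trans ?_
    rw [show (t : Γ(X, V)) • b = 0 from ht]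
    exact map_zero _

end QCoh

variable {δ : X → ℤ} {k : ℤ}

/-- The generizations of `y` of the next dimension. -/
abbrev Gen (δ : X → ℤ) (k : ℤ) (y : X) : Type u := {ξ : X // δ ξ = k + 1 ∧ ξ ⤳ y}

theorem exists_finset_gen [IsLocallyNoetherian X] (hX : Cyc.IsSetup X δ) {F : X.Modules}
    (hF : P (fun x => δ x ≤ k + 1) F) (y : X) :
    ∃ T : Finset (Gen δ k y), ∀ ξ, ξ ∉ T → Subsingleton ((St ξ.1).obj F) := by
  haveI : Coh.IsQCoh F := hF.1.1
  obtain ⟨U, hU, hyU⟩ := QCohLib.exists_affine_nhd y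
  have hfin : {ξ : Gen δ k y | ξ.1 ∈ CohB1.support F}.Finite := by
    refine ((AssPointLib.finite_assPoints hF.1.2 U hU.isCompact).preimage Subtype.val_injective.injOn).subset ?_
    intro ξ hξ
    exact ⟨ξ.2.2.mem_open U.isOpen hyU, AssPointLib.weak_of_maximal hξ
      ((CycK0Lib.levels_delta (k := k + 1) hX.2.2).top_max hF (x := ξ.1) (by have := ξ.2.1; omega))⟩
  exact ⟨hfin.toFinset, fun ξ hξ => not_not.mp fun h => hξ (hfin.mem_toFinset.2 h)⟩

theorem not_specializes (hX : Cyc.IsSetup X δ) {ξ η : X} (h : δ ξ = δ η) (hne : η ≠ ξ) : ¬ η ⤳ ξ := fun hs => by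
  have := (hX.2.2 η ξ hs hne).1
  omega

theorem exists_separator (hX : Cyc.IsSetup X δ) {y : X} (T : Finset (Gen δ k y)) (ξ : Gen δ k y) :
    ∃ t : X.presheaf.stalk y, Cyc.specMap y ξ.1 ξ.2.2 t ≠ 0 ∧
      ∀ η ∈ T, η ≠ ξ → Cyc.specMap y η.1 η.2.2 t = 0 := by
  classical
  have h1 : ∀ η : Gen δ k y, ∃ t : X.presheaf.stalk y, Cyc.specMap y ξ.1 ξ.2.2 t ≠ 0 ∧
      (η ≠ ξ → Cyc.specMap y η.1 η.2.2 t = 0) := fun η => by
    by_cases hne : η = ξ
    · exact ⟨1, by rw [map_one]; exact one_ne_zero, fun h => absurd hne h⟩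
    obtain ⟨t, ht, ht'⟩ : ∃ t, t ∈ (CycDivLib.primeOf η.2.2).asIdeal ∧ t ∉ (CycDivLib.primeOf ξ.2.2).asIdeal := by
      refine Set.not_subset.1 fun hle => ?_
      refine not_specializes hX (ξ.2.1.trans η.2.1.symm) (fun e => hne (Subtype.ext e)) ?_
      have := ((PrimeSpectrum.le_iff_specializes _ _).1 hle).map (X.fromSpecStalk y).continuous
      rwa [show (X.fromSpecStalk y) (CycDivLib.primeOf η.2.2) = η.1 from CycDivLib.stalkPt_primeOf _,
        show (X.fromSpecStalk y) (CycDivLib.primeOf ξ.2.2) = ξ.1 from CycDivLib.stalkPt_primeOf _] at this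
    exact ⟨t, fun h => ht' ((CycDivLib.specMap_eq_zero_iff _ _).1 h), fun _ => (CycDivLib.specMap_eq_zero_iff _ _).2 ht⟩
  choose t ht ht' using h1
  refine ⟨∏ η ∈ T, t η, ?_, fun η hη hne => ?_⟩
  · rw [map_prod]
    exact Finset.prod_ne_zero_iff.2 fun η _ => ht η
  · rw [map_prod]
    exact Finset.prod_eq_zero hη (ht' η hne)

theorem length_quot_ne_top (hX : Cyc.IsSetup X δ) {y : X} (hy : δ y = k) (ξ : Gen δ k y) (s : X.presheaf.stalk y)
    (hs : Cyc.specMap y ξ.1 ξ.2.2 s ≠ 0) :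
    Module.length (X.presheaf.stalk y)
      (X.presheaf.stalk y ⧸ (CycDivLib.primeOf ξ.2.2).asIdeal ⊔ Ideal.span {s}) ≠ ⊤ := by
  haveI := hX.1
  have hd := CycPushLib.dimBetween_le_one_of_drop hX ξ.2.2 (show δ y + 1 = δ ξ.1 by rw [hy, ξ.2.1])
  haveI : Ring.KrullDimLE 1 (Cyc.LocQuot y ξ.1 ξ.2.2) :=
    Ring.krullDimLE_iff.2 ((CycDivLib.dim_locQuot ξ.2.2).le.trans hd)
  have hs' : Ideal.Quotient.mk (RingHom.ker (Cyc.specMap y ξ.1 ξ.2.2)) s ∈ nonZeroDivisors (Cyc.LocQuot y ξ.1 ξ.2.2) :=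
    mem_nonZeroDivisors_of_ne_zero (by rwa [ne_eq, Ideal.Quotient.eq_zero_iff_mem, RingHom.mem_ker])
  have := Ring.ord_ne_top hs'
  rw [Ring.ord, ← Module.length_eq_of_surjective (S := X.presheaf.stalk y) (R := Cyc.LocQuot y ξ.1 ξ.2.2)
    Ideal.Quotient.mk_surjective, show Ideal.span {Ideal.Quotient.mk (RingHom.ker (Cyc.specMap y ξ.1 ξ.2.2)) s} =
      (Ideal.span {s}).map (Ideal.Quotient.mk _) from by rw [Ideal.map_span, Set.image_singleton]] at this
  refine ne_of_eq_of_ne ?_ this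
  exact ((DoubleQuot.quotQuotEquivQuotSupₐ (X.presheaf.stalk y) (RingHom.ker (Cyc.specMap y ξ.1 ξ.2.2))
    (Ideal.span {s})).toLinearEquiv.trans (Ideal.quotientEquivAlgOfEq _ (by rw [CycDivLib.ker_specMap])).toLinearEquiv).length_eq.symm

theorem ker_algebraMap_kap {y ξ : X} (h : ξ ⤳ y) :
    RingHom.ker (algebraMap (X.presheaf.stalk y) (Kap h)) = (CycDivLib.primeOf h).asIdeal :=
  CycDivLib.ker_specMap h

theorem lineHyp (hX : Cyc.IsSetup X δ) {y : X} (hy : δ y = k) (ξ : Gen δ k y) :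
    LineHyp (X.presheaf.stalk y) (Kap ξ.2.2) where
  frac z := by
    obtain ⟨a, b, hb, e⟩ := CycDivLib.exists_div ξ.2.2 (show X.residueField ξ.1 from z)
    refine ⟨a, b, hb, ?_⟩
    show (show X.residueField ξ.1 from z) * Cyc.specMap y ξ.1 ξ.2.2 b = Cyc.specMap y ξ.1 ξ.2.2 a
    rw [e, div_mul_cancel₀ _ hb]
  fin s hs := by
    rw [ker_algebraMap_kap]
    exact length_quot_ne_top hX hy ξ s hs

/-- The index of a rescaled lattice, in terms of the order along the specialization. -/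
theorem idx_map_ordAt (hX : Cyc.IsSetup X δ) {y : X} (hy : δ y = k) (ξ : Gen δ k y)
    {I : Submodule (X.presheaf.stalk y) (Kap ξ.2.2)} (hI : Lat I) {c : X.residueField ξ.1} (hc : c ≠ 0) :
    idx (I.map (mulBy (show Kap ξ.2.2 from c))) = idx I - Cyc.ordAt y ξ.1 ξ.2.2 c := by
  haveI := hX.1
  have hd := CycPushLib.dimBetween_le_one_of_drop hX ξ.2.2 (show δ y + 1 = δ ξ.1 by rw [hy, ξ.2.1])
  obtain ⟨a, b, hb, e⟩ := CycDivLib.exists_div ξ.2.2 c
  have ha : Cyc.specMap y ξ.1 ξ.2.2 a ≠ 0 := fun h => hc (by rw [e, h, zero_div])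
  rw [idx_smul (lineHyp hX hy ξ) hI (a := a) (b := b) ha hb
    (show c * Cyc.specMap y ξ.1 ξ.2.2 b = Cyc.specMap y ξ.1 ξ.2.2 a by rw [e, div_mul_cancel₀ _ hb]),
    e, CycDivLib.ordAt_div ξ.2.2 hd ha hb, CycDivLib.ordAt_specMap ξ.2.2 hd ha, CycDivLib.ordAt_specMap ξ.2.2 hd hb,
    ord, ord, ker_algebraMap_kap]

theorem finite_stalk [IsLocallyNoetherian X] {F : X.Modules} (hF : Coh.IsCoh F) (y : X) :
    Module.Finite (X.presheaf.stalk y) ((St y).obj F) :=
  haveI : Coh.IsQCoh F := hF.1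
  DepthLib.finite_stalk F hF.2 y

/-- A submodule of a stalk vanishing at all generizations of the next dimension has finite length. -/
theorem length_ne_top_of_sp_eq_zero (hX : Cyc.IsSetup X δ) {F : X.Modules}
    (hF : P (fun x => δ x ≤ k + 1) F) {y : X} (hy : δ y = k) (K : Submodule (X.presheaf.stalk y) ((St y).obj F))
    (hK : ∀ m ∈ K, ∀ ξ : Gen δ k y, sp F ξ.2.2 m = 0) :
    Module.length (X.presheaf.stalk y) K ≠ ⊤ := by
  haveI := hX.1
  haveI : Coh.IsQCoh F := hF.1.1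
  haveI := finite_stalk hF.1 y
  haveI : IsNoetherianRing (X.presheaf.stalk y) := inferInstance
  haveI : Module.Finite (X.presheaf.stalk y) K := Module.Finite.iff_fg.2 (IsNoetherian.noetherian K)
  refine CommAlgDim.length_ne_top_of_support fun p hp => ?_
  obtain ⟨⟨m, hm⟩, hp'⟩ := Module.mem_support_iff_exists_annihilator.1 hp
  let ξ := EquidimLib.stalkPt y p
  have h : ξ ⤳ y := EquidimLib.stalkPt_specializes y p
  have hpp : CycDivLib.primeOf h = p := EquidimLib.stalkPt_injective y (CycDivLib.stalkPt_primeOf h)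
  have hne : sp F h m ≠ 0 := fun h0 => by
    obtain ⟨t, ht, htm⟩ := exists_smul_eq_zero h h0
    refine ht ((CycDivLib.specMap_eq_zero_iff h t).2 ?_)
    rw [hpp]
    exact hp' ((Submodule.mem_annihilator_span_singleton _ _).2 (Subtype.ext htm))
  by_cases e : ξ = y
  · have hmax : p = IsLocalRing.closedPoint (X.presheaf.stalk y) :=
      EquidimLib.stalkPt_injective y (e.trans (Scheme.fromSpecStalk_closedPoint (X := X) (x := y)).symm)
    rw [hmax]
    exact IsLocalRing.maximalIdeal.isMaximal _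
  · exfalso
    have hle : δ ξ ≤ k + 1 := hF.supp fun hs => hne (@Subsingleton.elim _ hs _ _)
    have hlt := (hX.2.2 ξ y h e).1
    exact hne (hK m hm ⟨ξ, by omega, h⟩)

end CycDegLib

end
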